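import Cfsg.Agent.MQ.Lc.Tw
import Cfsg.Agent.OddRank.SzTits
import Cfsg.Agent.S1156
import Cfsg.Agent.H452.FprPsl2
import Cfsg.Agent.MQ.TA.BoxS
import Cfsg.Agent.H417.GU.Shift_m3
import Mathlib
import Cfsg.Agent.MQ.S.M35.Loc
import Cfsg.Agent.Lib.FinFast
import Cfsg.Agent.FastGrp
import Cfsg.Agent.Prune
set_option linter.all false
prune_inst 0x7fbcfff9afb887ffffff7e3ffefddffc1084cfffffdfb94bffe9e1ff8fdf032329c5fb870de050fc9ed6e0b410b87813fb7eeeffea6bdc7ffffd5ff41ffbee5fe5f6b58811d498340f346fff83f07f8a7f3fffffffffdfffffffffffffffffffffffffffffff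
open scoped Cfsg.Agent.FastGrp

-- part: MO/CyR/Main
section
/-!
# MO, the families in which all Sylow subgroups in cross characteristic are cyclic (helper77)

* `CycS p S` : the Sylow `p`-subgroups of `S` are cyclic;
* `sz`, `ree`, `psl2` : the groups `Sz(q)`, `²G₂(q)`, `PSL₂(q)`;
* `row_sz`, `row_ree` : the rows, from the row of the cyclic Sylow subgroups.
-/

set_option autoImplicit false

namespace Cfsg.Agent.MO.CyR

open Cfsg Subgroup

variable {p : ℕ} [hp : Fact p.Prime] {S T : Type} [Group S] [Group T]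

variable (p S) in
/-- the Sylow `p`-subgroups of `S` are cyclic -/
def CycS : Prop := ∀ P : Sylow p S, IsCyclic (P : Subgroup S)

omit hp in
theorem CycS.congr [Finite S] (e : S ≃* T) (h : CycS p T) : CycS p S := fun P => by
  have : Finite T := Finite.of_equiv _ e.toEquiv
  obtain ⟨Q, hQ⟩ := (P.isPGroup'.map (e : S →* T)).exists_le_sylow
  have := h Q
  have h1 : IsCyclic ↥((P : Subgroup S).map (e : S →* T)) :=
    isCyclic_of_injective (inclusion hQ) (inclusion_injective hQ)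
  exact isCyclic_of_surjective (e.subgroupMap (P : Subgroup S)).symm (e.subgroupMap (P : Subgroup S)).symm.surjective

theorem CycS.of_one [Finite S] (Q : Sylow p S) (h : IsCyclic (Q : Subgroup S)) : CycS p S := fun P =>
  isCyclic_of_surjective (Sylow.equiv Q P) (Sylow.equiv Q P).surjective

theorem sz [Finite S] (h2 : p ≠ 2) (h : Lie.IsoSuzuki S) : CycS p S := fun P =>
  OddRank.SzTits.isCyclic_of_isPGroup h h2 _ P.isPGroup'

theorem ree [Finite S] (h2 : p ≠ 2) (h3 : p ≠ 3) (h : Lie.IsoRee S) : CycS p S := by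
  obtain ⟨K, _, _, m, hm, hK, ⟨f⟩⟩ := h
  have := hp.out.two_le
  exact CycS.congr f fun P => S1156.result hm hK (by omega) P

theorem psl2 [Finite S] (h2 : p ≠ 2) {F : Type} [Field F] [Fintype F] (hF : ¬ p ∣ Fintype.card F)
    (e : S ≃* Matrix.ProjectiveSpecialLinearGroup (Fin 2) F) : CycS p S :=
  CycS.congr e fun P => H452.FprPsl2.psl_cyclic h2 hF P

theorem row_sz (h2 : p ≠ 2) (r : Row1 p fun S _ => CycS p S) : Row1 p fun S _ => Lie.IsoSuzuki S :=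
  fun X _ _ h => r X (sz h2 h)

theorem row_ree (h2 : p ≠ 2) (h3 : p ≠ 3) (r : Row1 p fun S _ => CycS p S) : Row1 p fun S _ => Lie.IsoRee S :=
  fun X _ _ h => r X (ree h2 h3 h)

end Cfsg.Agent.MO.CyR
end

-- part: MO/Top/Defs
section
/-!
# MO, the top level: the interface (helper50)

* `FamN r S` : the families of `MO/Fm` (the same text as `Fm.Fam`); `RowN l` : their row, for non-cyclic Sylow subgroups;
* `RowA1 l` : the types `A`, `²A`; `gen_of` : the row `X.Gen`.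
-/

set_option autoImplicit false

namespace Cfsg.Agent.MO.Top

open Cfsg Subgroup Cfsg.Agent.MO.CyR

/-- the types `B`, `C`, `D`, `²D`, `G₂`, `F₄`, `E₆`, `E₇`, `E₈`, `²E₆`, `³D₄`, `²F₄` -/
def FamN (r : ℕ) (S : Type) [Group S] : Prop :=
  IsPSpChar r S ∨ IsPOmegaOddChar r S ∨ IsPOmegaPlusChar r S ∨ IsPOmegaMinusChar r S ∨ IsExceptionalChevChar r S ∨
    IsTwistedE6D4Char r S ∨ r = 2 ∧ Lie.Iso2F4 S

/-- **the row in cross characteristic, not of type `A`, with a Sylow subgroup which is not cyclic** -/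
def RowN (l : ℕ) : Prop :=
  ∀ (r : ℕ) [Fact r.Prime], r ≠ l → ∀ (X : Type) [Group X] [Finite X], FamN r (X ⧸ center X) →
    ¬ r ∣ Nat.card (center X) → ¬ CycS l (X ⧸ center X) → ∀ Γ : Subgroup (MulAut X), Sit l X Γ → Bi l Γ → One l X Γ

/-- the types `A`, `²A` -/
def RowA1 (l : ℕ) : Prop :=
  ∀ (X : Type) [Group X] [Finite X] (r : ℕ), r.Prime → r ≠ l → IsPSLChar r (X ⧸ center X) ∨ IsPSUChar r (X ⧸ center X) →
    ¬ r ∣ Nat.card (center X) → ∀ Γ : Subgroup (MulAut X), Sit l X Γ → Bi l Γ → One l X Γ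

theorem gen_of {l : ℕ} [Fact l.Prime] (h2 : l ≠ 2) (cy : Row1 l fun S _ => CycS l S) (a : RowA1 l) (n : RowN l) :
    X.Gen l := by
  intro X _ _ r hr hl h hz Γ s b
  have := Fact.mk hr
  by_cases hc : CycS l (X ⧸ center X)
  · exact cy X hc Γ s b
  have n := fun h => n r hl X h hz hc Γ s b
  rcases h with h | h | h | h | h | h | h | h | h | h | h
  · exact a X r hr hl (.inl h) hz Γ s b
  · exact n (.inl h)
  · exact a X r hr hl (.inr h) hz Γ s b
  · exact n (.inr (.inl h))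
  · exact n (.inr (.inr (.inl h)))
  · exact n (.inr (.inr (.inr (.inl h))))
  · exact n (.inr (.inr (.inr (.inr (.inl h)))))
  · exact n (.inr (.inr (.inr (.inr (.inr (.inl h))))))
  · exact absurd (sz h2 h.2) hc
  · exact n (.inr (.inr (.inr (.inr (.inr (.inr h))))))
  · exact absurd (ree h2 (h.1 ▸ hl.symm) h.2) hc

end Cfsg.Agent.MO.Top
end

-- part: MO/TA/Asm
section
/-!
# MO, types `A` and `²A`: the assembly (helper15)

* `As.loc` : the local frame; `Boxes` : all boxes;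
* `gd_of_real`, `gd_of_gen` : the situations of quotients of `SL_n(q)`, `SU_n(q)` are good for the odd primes `l ≠ p`.
-/

set_option autoImplicit false

namespace Cfsg.Agent.MO.TA

open Cfsg Subgroup Cfsg.Agent.H577.GLB.Std
open scoped MatrixGroups

section frame

variable {A : Type} [Group A] {B G Gt Gh C : Subgroup A} {F : A} {l : ℕ}

theorem As.le_t (h : Fr B G Gt Gh F) : G ≤ Gt := h.inf ▸ inf_le_left

theorem As.le_h (h : Fr B G Gt Gh F) : G ≤ Gh := h.inf ▸ inf_le_right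

theorem As.split (h : Loc l B G Gt C F) {H : Subgroup A} (hG : G ≤ H) (hB : H ≤ B) {x : A} (hx : x ∈ H) :
    ∃ c ∈ H ⊓ C, ∃ g ∈ G, x = c * g := by
  obtain ⟨c, hc, g, hg, e⟩ := h.sup x (hB hx)
  have h1 : c ∈ H := by
    rw [← mul_inv_eq_iff_eq_mul.2 e]
    exact mul_mem hx (inv_mem (hG hg))
  exact ⟨c, ⟨h1, hc⟩, g, hg, e⟩

/-- congruences modulo `G` -/
theorem As.pow_mul (h : Fr B G Gt Gh F) {c g : A} (hc : c ∈ B) (hg : g ∈ G) (k : ℕ) :
    ∃ y ∈ G, (c * g) ^ k = c ^ k * y := by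
  induction k with
  | zero => exact ⟨1, one_mem _, by simp⟩
  | succ k ih =>
    obtain ⟨y, hy, e⟩ := ih
    refine ⟨c⁻¹ * y * c⁻¹⁻¹ * g, mul_mem (h.nN _ (inv_mem hc) y hy) hg, ?_⟩
    rw [pow_succ, e, pow_succ]
    group

/-- **the local frame** -/
theorem As.loc (h : Fr B G Gt Gh F) (L : Loc l B G Gt C F) : Fr C (G ⊓ C) (Gt ⊓ C) (Gh ⊓ C) F where
  tB := inf_le_right
  hB := inf_le_right
  inf := by rw [← inf_inf_distrib_right, h.inf]
  sup b hb := by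
    obtain ⟨t, ht, k, hk, e⟩ := h.sup b (L.le hb)
    obtain ⟨c, hc, g, hg, e'⟩ := As.split L (As.le_t h) h.tB ht
    refine ⟨c, hc, g * k, mem_inf.2 ⟨mul_mem (As.le_h h hg) hk, ?_⟩, by rw [e, e', mul_assoc]⟩
    rw [show g * k = c⁻¹ * b by rw [e, e']; group]
    exact mul_mem (inv_mem (mem_inf.1 hc).2) hb
  nN b hb x hx := mem_inf.2 ⟨h.nN b (L.le hb) x hx.1, mul_mem (mul_mem hb (mem_inf.1 hx).2) (inv_mem hb)⟩
  nT b hb x hx := mem_inf.2 ⟨h.nT b (L.le hb) x hx.1, mul_mem (mul_mem hb (mem_inf.1 hx).2) (inv_mem hb)⟩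
  cyc := by
    obtain ⟨g, hg, hx⟩ := h.cyc
    obtain ⟨c, hc, y, hy, rfl⟩ := As.split L (As.le_t h) h.tB hg
    refine ⟨c, hc, fun x hx' => ?_⟩
    obtain ⟨k, z, hz, e⟩ := hx x hx'.1
    obtain ⟨u, hu, e'⟩ := As.pow_mul h (L.le hc.2) hy k
    refine ⟨k, u * z, mem_inf.2 ⟨mul_mem hu hz, ?_⟩, by rw [e, e', mul_assoc]⟩
    rw [show u * z = (c ^ k)⁻¹ * x by rw [e, e']; group]
    exact mul_mem (inv_mem (pow_mem (mem_inf.1 hc).2 k)) (mem_inf.1 hx').2
  gen := by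
    obtain ⟨φ, hφ, τ, hτ, h1, h2, h3⟩ := h.gen
    obtain ⟨a, ha, y, hy, rfl⟩ := As.split L (As.le_h h) h.hB hφ
    obtain ⟨b, hb, z, hz, rfl⟩ := As.split L (As.le_h h) h.hB hτ
    have ha2 : a ∈ C := ha.2
    have hb2 : b ∈ C := hb.2
    have hA := L.le ha2
    have hB := L.le hb2
    refine ⟨a, ha, b, hb, mem_inf.2 ⟨?_, mul_mem hb2 hb2⟩,
      mem_inf.2 ⟨?_, mul_mem (mul_mem (mul_mem ha2 hb2) (inv_mem ha2)) (inv_mem hb2)⟩, fun x hx => ?_⟩
    · rw [show b * b = b * z * (b * z) * z⁻¹ * (b⁻¹ * z⁻¹ * b⁻¹⁻¹) by group]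
      exact mul_mem (mul_mem h1 (inv_mem hz)) (h.nN _ (inv_mem hB) _ (inv_mem hz))
    · rw [show a * b * a⁻¹ * b⁻¹ = a * y⁻¹ * a⁻¹ * (a * y * (b * z) * (a * y)⁻¹ * (b * z)⁻¹) * (b * z * b⁻¹) *
        (b * (a * y * a⁻¹) * b⁻¹) * (b * (a * z⁻¹ * a⁻¹) * b⁻¹) by group]
      exact mul_mem (mul_mem (mul_mem (mul_mem (h.nN _ hA _ (inv_mem hy)) h2) (h.nN _ hB _ hz))
        (h.nN _ hB _ (h.nN _ hA _ hy))) (h.nN _ hB _ (h.nN _ hA _ (inv_mem hz)))
    · obtain ⟨i, j, u, hu, e⟩ := h3 x hx.1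
      obtain ⟨y', hy', e1⟩ := As.pow_mul h hA hy i
      obtain ⟨z', hz', e2⟩ := As.pow_mul h hB hz j
      have e3 : x = a ^ i * b ^ j * ((b ^ j)⁻¹ * y' * (b ^ j)⁻¹⁻¹ * z' * u) := by
        rw [e, e1, e2]
        group
      refine ⟨i, j, _, mem_inf.2 ⟨mul_mem (mul_mem (h.nN _ (inv_mem (pow_mem hB j)) _ hy') hz') hu, ?_⟩, e3⟩
      rw [← inv_mul_eq_iff_eq_mul.2 e3]
      exact mul_mem (inv_mem (mul_mem (pow_mem ha2 i) (pow_mem hb2 j))) (mem_inf.1 hx).2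
  Fh := ⟨h.Fh, L.FC⟩
  Fc b hb := h.Fc b (L.le hb)
  Ft k hk := h.Ft k hk.1

theorem As.relIndex_dvd (h : Fr B G Gt Gh F) (C : Subgroup A) : (G ⊓ C).relIndex (Gt ⊓ C) ∣ G.relIndex Gt := by
  have : (G.subgroupOf Gt).Normal := ⟨fun x hx g => h.nN g (h.tB g.2) x hx⟩
  have h1 : (G ⊓ C).relIndex (Gt ⊓ C) = G.relIndex (Gt ⊓ C) := by
    rw [← inf_relIndex_right G, ← inf_assoc, inf_eq_left.2 (As.le_t h)]
  rw [h1, ← relIndex_subgroupOf (inf_le_left : Gt ⊓ C ≤ Gt)]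
  exact relIndex_dvd_index_of_normal _ _

end frame

theorem As.int_vd (c : D0) (d w r : ℕ) [NeZero d] (i j : Ix d w r) : ∃ z : ℤ, (c.vd d w r).1 i j = z := by
  rw [D0.vd, Units.val_mul, dg_val, Matrix.diagonal_mul, pm_apply]
  split_ifs
  · rcases i with x | k
    · by_cases h : x.2 = 0
      · exact ⟨(-1) ^ (d - 1), by simp only [h, _root_.Sum.elim_inl, ↓ _root_.reduceIte, _root_.Units.val_pow_eq_pow_val, _root_.Units.val_neg, _root_.Units.val_one, _root_.mul_one, _root_.Int.reduceNeg, _root_.Int.cast_pow, _root_.Int.cast_neg, _root_.Int.cast_one]⟩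
      · exact ⟨1, by simp only [h, _root_.Sum.elim_inl, ↓ _root_.reduceIte, _root_.Units.val_one, _root_.mul_one, _root_.Int.cast_one]⟩
    · exact ⟨1, by simp⟩
  · exact ⟨0, by simp⟩

theorem As.sign_addRight (d : ℕ) [NeZero d] : Equiv.Perm.sign (Equiv.addRight (1 : ZMod d)) = (-1) ^ (d - 1) := by
  obtain ⟨k, rfl⟩ := Nat.exists_eq_succ_of_ne_zero (NeZero.ne d)
  have h : Equiv.addRight (1 : ZMod (k + 1)) = finRotate (k + 1) := Equiv.ext fun x => (finRotate_apply (n := k + 1) x).symm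
  rw [h]
  exact sign_finRotate (k + 1)

theorem As.det_vd (c : D0) (d w r : ℕ) [NeZero d] : Matrix.GeneralLinearGroup.det (c.vd d w r) = 1 := by
  refine Units.ext ?_
  have h1 : ∀ π : Equiv.Perm (Ix d w r), (pm π : GL (Ix d w r) c.K).1.det = ((Equiv.Perm.sign π : ℤˣ) : ℤ) := fun π =>
    (Matrix.det_permutation π⁻¹).trans (by rw [Equiv.Perm.sign_inv])
  have h2 : Equiv.Perm.sign (Equiv.prodCongr (Equiv.refl (Fin w)) (Equiv.addRight (1 : ZMod d))) = ((-1) ^ (d - 1)) ^ w := by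
    have h3 := Equiv.Perm.sign_prodCongrRight fun _ : Fin w => Equiv.addRight (1 : ZMod d)
    rw [Finset.prod_const, Finset.card_univ, Fintype.card_fin, As.sign_addRight] at h3
    exact h3
  rw [D0.vd, Matrix.GeneralLinearGroup.val_det_apply, Units.val_mul, Matrix.det_mul, h1, dg_val, Matrix.det_diagonal,
    Equiv.Perm.sign_sumCongr, h2, Fintype.prod_sum_type, Fintype.prod_prod_type]
  simp only [apply_ite, ← mul_pow, _root_.Sum.elim_inl, _root_.Units.val_pow_eq_pow_val, _root_.Units.val_neg, _root_.Units.val_one, _root_.Finset.prod_ite_eq', _root_.Finset.mem_univ, ↓ _root_.reduceIte, _root_.Finset.prod_const, _root_.Finset.card_univ, _root_.Fintype.card_fin, _root_.Sum.elim_inr, _root_.Finset.prod_const_one, _root_.mul_one, _root_.Equiv.Perm.sign_refl, _root_.Int.reduceNeg, _root_.Int.cast_pow, _root_.Int.cast_neg, _root_.Int.cast_one, _root_.mul_neg, _root_.neg_neg, _root_.one_pow]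

/-- all boxes -/
structure Boxes : Prop where
  b1 : B1
  b2 : B2
  f : BoxF
  g : BoxG
  u : BoxU
  t : BoxT
  l : BoxL
  m : BoxM
  s : BoxS
  o : BoxO
  x : BoxX
  r : BoxR

theorem As.two_dvd (c : D0) (h : c.p ≠ 2) : ((2 : ℕ) : ℤ) ∣ c.Q - 1 := by
  have h1 : Odd ((c.p : ℤ) ^ c.f) := (Int.odd_coe_nat _).2 (c.pp.out.odd_of_ne_two h) |>.pow
  have h2 : Odd c.Q := by
    rw [c.hQ]
    rcases Int.units_eq_one_or (c.sg c.F) with e | e <;> rw [e]
    · simpa using h1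
    · simpa only [_root_.Units.val_neg, _root_.Units.val_one, _root_.Int.reduceNeg, _root_.neg_mul, _root_.one_mul, _root_.odd_neg] using h1.neg
  exact even_iff_two_dvd.1 (h2.sub_odd odd_one)

theorem Boxes.good (b : Boxes) (c : Cx) (ι : Type) [Fintype ι] [DecidableEq ι] (hn : Fintype.card ι ≤ c.n) (v : GL ι c.K)
    (hv : c.Lg v) (χ : c.Gt v → ℂ) (hχ : IsIrrCharacter _ χ) : ∃ θ, Good (c.G v) (c.Gh v) (c.tw v) χ θ := by
  have F := b.f c ι hn v hv
  refine b.b2 _ _ _ _ _ _ F.fr χ hχ fun s hs h => ?_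
  rcases h with rfl | h
  · by_cases e : c.p = 2
    · exact b.t c ι hn v hv e χ hχ
    · exact b.u c ι hn v hv χ hχ 2 hs (As.two_dvd c.toD0 e)
  · exact b.u c ι hn v hv χ hχ s hs ((Int.natCast_dvd_natCast.2 h).trans F.idx)

theorem As.ord_le {l n : ℕ} [Fact l.Prime] {Q : ℤ} (h : vz l (PH Q n) ≠ 0) :
    0 < orderOf (Q : ZMod l) ∧ orderOf (Q : ZMod l) ≤ n := by
  have h1 : (l : ℤ) ∣ PH Q n := Int.natCast_dvd.2 (Nat.dvd_of_factorization_pos h)
  obtain ⟨i, hi, h2⟩ := (Prime.dvd_finsetProd_iff (Nat.prime_iff_prime_int.1 Fact.out) _).1 h1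
  have h3 : (Q : ZMod l) ^ (i + 1) = 1 := by
    rw [← sub_eq_zero]
    exact_mod_cast (ZMod.intCast_zmod_eq_zero_iff_dvd _ _).2 h2
  exact ⟨(isOfFinOrder_iff_pow_eq_one.2 ⟨_, i.succ_pos, h3⟩).orderOf_pos,
    (orderOf_le_of_pow_eq_one i.succ_pos h3).trans (Finset.mem_range.1 hi)⟩

/-- **the main theorem for realised groups** -/
theorem Boxes.gd_of_real (b : Boxes) {l r : ℕ} [Fact l.Prime] (h2 : l ≠ 2) (hr : l ≠ r) {X : Type} [Group X] [Finite X]
    (h : Real r X) {Γ : Subgroup (MulAut X)} (s : Sit l X Γ) : Gd l X Γ := by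
  obtain ⟨c, n, rfl, hn2, hn, H⟩ := h
  have hl : l.Prime := Fact.out
  have L1 : ∀ n, n ≤ c.n → c.Lg (1 : GL (Fin n) c.K) := fun n _ => ⟨1, map_one _, by rw [map_one, one_mul]⟩
  have hd : vz l (PH c.Q n) ≠ 0 := by
    obtain ⟨-, π, a, A, -⟩ := H (Fin n) (Fintype.card_fin n) 1 (L1 n hn)
    have F := b.f c (Fin n) (by rwa [Fintype.card_fin]) 1 (L1 n hn)
    have h1 := F.card l hl hr
    rw [Fintype.card_fin] at h1
    rw [← h1]
    exact (hl.factorization_pos_of_dvd Nat.card_pos.ne' ((s.dvd.trans (card_dvd_of_surjective π A.surj)).trans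
      (card_dvd_of_le (As.le_t F.fr)))).ne'
  obtain ⟨d0, dn⟩ := As.ord_le hd
  obtain ⟨d, hd'⟩ : ∃ d, orderOf (c.Q : ZMod l) = d := ⟨_, rfl⟩
  rw [hd'] at d0 dn
  have : NeZero d := ⟨d0.ne'⟩
  by_cases hx : l = 3 ∧ d = 1 ∧ n / d = 3 ∧ vz 3 (c.Q - 1) = 1
  · obtain ⟨rfl, rfl, h3, h4⟩ := hx
    rw [Nat.div_one] at h3
    subst h3
    obtain ⟨qs, π, a, A, ha⟩ := H (Fin 3) (Fintype.card_fin 3) 1 (L1 3 hn)
    have F := b.f c (Fin 3) hn 1 (L1 3 hn)
    obtain ⟨C, S, S', Ω, L, O, gd⟩ := b.x c hn h4 qs (Subtype.val '' (π.ker : Set (c.G 1))) fun z hz hc => by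
      refine ⟨⟨z, hz⟩, ?_, rfl⟩
      have h5 : π ⟨z, hz⟩ ∈ center X := mem_center_iff.2 fun x => by
        obtain ⟨y, rfl⟩ := A.surj x
        rw [← map_mul, ← map_mul]
        exact congrArg π (Subtype.ext (hc.2 y ((As.le_t F.fr) y.2)).symm)
      have h6 : (⟨z, hz⟩ : c.G 1) ^ 3 = 1 := by
        obtain ⟨-, x, hx⟩ := (F.cen z).1 hc
        have h7 : z = SemidirectProduct.inl (dg fun _ => x) := SemidirectProduct.ext hx hz.1.2
        have h8 : x ^ 3 = 1 := by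
          have h9 : c.dt z = 1 := hz.2.2
          rw [D0.dt, hx, Units.ext_iff, Matrix.GeneralLinearGroup.val_det_apply, dg_val, Matrix.det_diagonal] at h9
          exact Units.ext (by simpa only [_root_.Units.val_pow_eq_pow_val, _root_.Units.val_one, _root_.Finset.prod_const, _root_.Finset.card_univ, _root_.Fintype.card_fin] using h9)
        refine Subtype.ext ?_
        change z ^ 3 = 1
        rw [h7, ← map_pow, ← map_pow]
        change SemidirectProduct.inl (dg fun _ => x ^ 3) = 1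
        rw [h8]
        exact (congrArg _ (map_one _)).trans (map_one _)
      have h7 : orderOf (⟨_, h5⟩ : center X) ∣ 3 :=
        orderOf_dvd_of_pow_eq_one (Subtype.ext (by rw [coe_pow, ← map_pow, h6, map_one]; rfl))
      rcases (Nat.dvd_prime Nat.prime_three).1 h7 with e | e
      · exact congrArg Subtype.val (orderOf_eq_one_iff.1 e)
      · exact absurd (e ▸ _root_.orderOf_dvd_natCard _) s.cop
    exact b.b1 3 _ _ _ _ _ C _ X π a Γ S S' Ω F.fr L A O (fun χ hχ => b.good c (Fin 3) hn 1 (L1 3 hn) χ (O.irr χ hχ)) gd s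
      (fun α _ => ha α)
  · have e : d * (n / d) + n % d = n := Nat.div_add_mod n d
    have hw : 0 < n / d := Nat.div_pos dn d0
    have hr' : n % d < d := Nat.mod_lt _ d0
    generalize n / d = w at *
    generalize n % d = r at *
    subst e
    have hc : Fintype.card (Ix d w r) = d * w + r := by simp only [ZMod.card, mul_comm, _root_.Fintype.card_sum, _root_.Fintype.card_prod, _root_.Fintype.card_fin, _root_.Nat.add_left_cancel_iff]
    have hv : c.Lg (c.vd d w r) := c.lang _ (hc ▸ hn) _ (As.det_vd c.toD0 d w r) (As.int_vd c.toD0 d w r)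
    obtain ⟨qs, π, a, A, ha⟩ := H _ hc _ hv
    have F := b.f c _ (hc ▸ hn) _ hv
    have L := b.s c l d w r hl h2 hr hd' hr' hw hn hx qs
    obtain ⟨ch, Gl⟩ := b.g c _ (hc ▸ hn) _ hv (d * w + r) _ hc le_rfl
    obtain ⟨ψ, Lo⟩ := b.l c d w r (d * w + r) hw hn le_rfl
    obtain ⟨S, Ω, O⟩ := b.o c l d w r _ hl h2 hr hd' hr' le_rfl F ch Gl ψ Lo (Subtype.val '' (π.ker : Set (c.G (c.vd d w r))))
    refine b.b1 l _ _ _ _ _ _ _ X π a Γ S _ Ω F.fr L A O (fun χ hχ => b.good c _ (hc ▸ hn) _ hv χ (O.irr χ hχ))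
      (fun χ hχ => b.b2 _ _ _ _ _ _ (As.loc F.fr L) χ hχ fun s hs h => b.m c d w r hw hn χ hχ s hs (h.imp_right fun h => ?_)) s
      (fun α _ => ha α)
    exact (Int.natCast_dvd_natCast.2 (h.trans (As.relIndex_dvd F.fr _))).trans F.idx

/-- **the main theorem** -/
theorem Boxes.gd_of_gen (b : Boxes) {l r : ℕ} [Fact l.Prime] (h2 : l ≠ 2) (hr : r.Prime) (hlr : l ≠ r) {X : Type} [Group X]
    [Finite X] (h : GenL r X ∨ GenU r X) {Γ : Subgroup (MulAut X)} (s : Sit l X Γ) : Gd l X Γ :=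
  b.gd_of_real h2 hlr (b.r r X hr s.qs h) s

/-- **the rows `A`, `²A` of `X.Gen`** -/
theorem Boxes.gen (b : Boxes) (hV : BoxV) {l : ℕ} [Fact l.Prime] (h2 : l ≠ 2) (X : Type) [Group X] [Finite X] (r : ℕ)
    (hr : r.Prime) (hlr : r ≠ l) (h : IsPSLChar r (X ⧸ center X) ∨ IsPSUChar r (X ⧸ center X))
    (hz : ¬ r ∣ Nat.card (center X)) (Γ : Subgroup (MulAut X)) (s : Sit l X Γ) : Gd l X Γ :=
  b.gd_of_gen h2 hr hlr.symm (h.imp (hV r X hr s.qs hz).1 (hV r X hr s.qs hz).2) s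

end Cfsg.Agent.MO.TA
end

-- part: MO/TA/X0
section
/-!
# MO, types `A` and `²A`: the exception, base points (helper15)

* `Base` : finitely many invariant irreducible characters whose twists contain all characters which matter;
* `om_of_base` : two families of base points with the same invariants give `Om`;
* `BoxXL`, `BoxXG` : the local and the global half of `BoxX`; `boxX_of`.
-/

set_option autoImplicit false

namespace Cfsg.Agent.MO.TA

open Cfsg Subgroup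
open scoped MatrixGroups

section base

variable {A : Type} [Group A]

/-- base points: invariant under `C`, trivial on `Zc`; `o i` is the exponent of the stabiliser of `χ i` under the twists,
`v i` the valuation of the degree -/
structure Base {I : Type} (l : ℕ) (N Nt C : Subgroup A) (Zc Z₀ : Set A) (χ : I → Nt → ℂ) (o v : I → ℕ) : Prop where
  irr : ∀ i, IsIrrCharacter _ (χ i)
  tr : ∀ c ∈ C, ∀ i, Tr Nt c (χ i) (χ i)
  cen : ∀ z : Nt, (z : A) ∈ Zc → ∀ i, χ i z = χ i 1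
  deg : ∀ i, (charDegree (χ i)).factorization l = v i
  stab : ∀ μ : Nt →* ℂˣ, Lin N μ → ∀ i j, (fun x => (μ x : ℂ) * χ i x) = χ j ↔ i = j ∧ μ ^ o i = 1
  out : ∀ φ : Nt → ℂ, IsIrrCharacter _ φ → (∀ z : Nt, (z : A) ∈ Z₀ → φ z = φ 1) →
    (∃ (μ : Nt →* ℂˣ) (i : I), Lin N μ ∧ φ = fun x => (μ x : ℂ) * χ i x) ∨
      (yc N φ).factorization l < (charDegree φ).factorization l

end base

/-- **box XL** : the local half of the exception -/
def BoxXL : Prop :=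
  ∀ c : Cx, 3 ≤ c.n → vz 3 (c.Q - 1) = 1 → IsQuasisimple (c.G (1 : GL (Fin 3) c.K)) →
    ∀ Z₀ : Set (c.AA (Fin 3)), (∀ z ∈ c.G 1, Cn (c.Gt 1) z → z ∈ Z₀) →
    ∃ (C : Subgroup (c.AA (Fin 3))) (ψ : Fin 4 → ↥(c.Gt 1 ⊓ C) → ℂ), Loc 3 (c.Ah 1) (c.G 1) (c.Gt 1) C (c.tw 1) ∧
      Base 3 (c.G 1 ⊓ C) (c.Gt 1 ⊓ C) C {z | Cn (c.Gt 1) z} Z₀ ψ ![1, 1, 1, 3] ![0, 0, 0, 1] ∧
      ∀ i, ∃ θ, Good (c.G 1 ⊓ C) (c.Gh 1 ⊓ C) (c.tw 1) (ψ i) θ

/-- **box XG** : the global half of the exception -/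
def BoxXG : Prop :=
  ∀ c : Cx, 3 ≤ c.n → vz 3 (c.Q - 1) = 1 → ∀ Z₀ : Set (c.AA (Fin 3)), ∃ χ : Fin 4 → c.Gt (1 : GL (Fin 3) c.K) → ℂ,
    Base 3 (c.G 1) (c.Gt 1) (c.Ah 1) {z | Cn (c.Gt 1) z} Z₀ χ ![1, 1, 1, 3] ![0, 0, 0, 1]

namespace X0

variable {A : Type} [Group A] {B G Gt Gh C : Subgroup A} {F : A} {l : ℕ}

/-- the restriction of a linear character -/
def rl (C : Subgroup A) (μ : Gt →* ℂˣ) : ↥(Gt ⊓ C) →* ℂˣ := μ.comp (inclusion inf_le_left)

theorem rl_lin {μ : Gt →* ℂˣ} (h : Lin G μ) : Lin (G ⊓ C) (rl C μ) := fun _ hx => h _ hx.1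

theorem rl_pow (μ : Gt →* ℂˣ) (k : ℕ) : rl C (μ ^ k) = rl C μ ^ k := rfl

theorem rl_inj (h : Fr B G Gt Gh F) (L : Loc l B G Gt C F) {μ : Gt →* ℂˣ} (hμ : Lin G μ) (e : rl C μ = 1) : μ = 1 := by
  refine MonoidHom.ext fun x => ?_
  obtain ⟨c, hc, g, hg, e'⟩ := As.split L (As.le_t h) h.tB x.2
  rw [show x = inclusion inf_le_left ⟨c, hc⟩ * ⟨g, As.le_t h hg⟩ from Subtype.ext e', map_mul,
    hμ ⟨g, As.le_t h hg⟩ hg, mul_one]
  exact DFunLike.congr_fun e ⟨c, hc⟩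

theorem rl_surj (h : Fr B G Gt Gh F) (L : Loc l B G Gt C F) {ν : ↥(Gt ⊓ C) →* ℂˣ} (hν : Lin (G ⊓ C) ν) :
    ∃ μ : Gt →* ℂˣ, Lin G μ ∧ rl C μ = ν := by
  choose c hc g hg e using fun x : Gt => As.split L (As.le_t h) h.tB x.2
  have key : ∀ (x : Gt) (y : ↥(Gt ⊓ C)), (y : A)⁻¹ * x ∈ G → ν ⟨c x, hc x⟩ = ν y := fun x y hy => by
    rw [← inv_mul_eq_one, ← map_inv, ← map_mul]
    refine hν _ (mem_inf.2 ⟨?_, mul_mem (inv_mem (mem_inf.1 (hc x)).2) (mem_inf.1 y.2).2⟩)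
    change (c x)⁻¹ * y ∈ G
    rw [show (c x)⁻¹ * y = g x * ((y : A)⁻¹ * x)⁻¹ by rw [e x]; group]
    exact mul_mem (hg x) (inv_mem hy)
  refine ⟨MonoidHom.mk' (fun x => ν ⟨c x, hc x⟩) fun x y => ?_, fun x hx => ?_, MonoidHom.ext fun y => ?_⟩
  · rw [← map_mul]
    refine key _ _ ?_
    change (c x * c y)⁻¹ * ((x : A) * y) ∈ G
    rw [show (c x * c y)⁻¹ * ((x : A) * y) = (c y)⁻¹ * g x * (c y)⁻¹⁻¹ * g y by rw [e x, e y]; group]
    exact mul_mem (h.nN _ (inv_mem (L.le (hc y).2)) _ (hg x)) (hg y)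
  · exact (key x 1 (by simpa only [_root_.OneMemClass.coe_one, _root_.inv_one, _root_.one_mul] using hx)).trans (map_one ν)
  · exact key _ y (by simp)

theorem tw_tw {H : Subgroup A} (μ μ' : H →* ℂˣ) (f : H → ℂ) :
    (fun x => (μ x : ℂ) * ((μ' x : ℂ) * f x)) = fun x => ((μ * μ') x : ℂ) * f x :=
  funext fun x => by rw [MonoidHom.mul_apply, Units.val_mul, mul_assoc]

theorem tw_eq_iff {H : Subgroup A} (μ μ' : H →* ℂˣ) (f f' : H → ℂ) :
    ((fun x => (μ x : ℂ) * f x) = fun x => (μ' x : ℂ) * f' x) ↔ (fun x => ((μ'⁻¹ * μ) x : ℂ) * f x) = f' := by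
  refine ⟨fun e => funext fun x => ?_, fun e => funext fun x => ?_⟩
  · rw [MonoidHom.mul_apply, Units.val_mul, mul_assoc, congrFun e x, MonoidHom.inv_apply, Units.inv_mul_cancel_left]
  · rw [← e]
    beta_reduce
    rw [MonoidHom.mul_apply, Units.val_mul, mul_assoc, MonoidHom.inv_apply, Units.mul_inv_cancel_left]

theorem lin_mul {N H : Subgroup A} {μ μ' : H →* ℂˣ} (h : Lin N μ) (h' : Lin N μ') : Lin N (μ * μ') := fun x hx => by
  rw [MonoidHom.mul_apply, h x hx, h' x hx, one_mul]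

theorem lin_inv {N H : Subgroup A} {μ : H →* ℂˣ} (h : Lin N μ) : Lin N μ⁻¹ := fun x hx => by
  rw [MonoidHom.inv_apply, h x hx, inv_one]

theorem deg_tw {H : Subgroup A} (μ : H →* ℂˣ) (f : H → ℂ) : charDegree (fun x => (μ x : ℂ) * f x) = charDegree f := by
  simp [charDegree]

/-- **the bijection from base points** -/
theorem om_of_base [Finite A] (h : Fr B G Gt Gh F) (L : Loc l B G Gt C F) {I : Type} {Z₀ : Set A} {χ : I → Gt → ℂ}
    {ψ : I → ↥(Gt ⊓ C) → ℂ} {o v : I → ℕ} (b : Base l G Gt B {z | Cn Gt z} Z₀ χ o v)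
    (b' : Base l (G ⊓ C) (Gt ⊓ C) C {z | Cn Gt z} Z₀ ψ o v) : ∃ S S' Ω, Om l G Gt C Z₀ S S' Ω ∧
      ∀ φ ∈ S', ∃ (ν : ↥(Gt ⊓ C) →* ℂˣ) (i : I), Lin (G ⊓ C) ν ∧ φ = fun x => (ν x : ℂ) * ψ i x := by
  classical
  let S : Set (Gt → ℂ) := {φ | ∃ (μ : Gt →* ℂˣ) (i : I), Lin G μ ∧ φ = fun x => (μ x : ℂ) * χ i x}
  let Ω : (Gt → ℂ) → ↥(Gt ⊓ C) → ℂ := fun φ =>
    if h : φ ∈ S then fun x => (rl C h.choose x : ℂ) * ψ h.choose_spec.choose x else 0
  have key : ∀ {μ μ' : Gt →* ℂˣ} {i j : I}, Lin G μ → Lin G μ' →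
      (((fun x => (μ x : ℂ) * χ i x) = fun x => (μ' x : ℂ) * χ j x) ↔
        (fun x => (rl C μ x : ℂ) * ψ i x) = fun x => (rl C μ' x : ℂ) * ψ j x) := fun {μ μ' i j} h1 h2 => by
    rw [tw_eq_iff, tw_eq_iff, b.stab _ (lin_mul (lin_inv h2) h1), b'.stab _ (lin_mul (lin_inv (rl_lin h2)) (rl_lin h1))]
    refine and_congr_right fun _ => ⟨fun e => congrArg (rl C) e, fun e => rl_inj h L (fun x hx => ?_) e⟩
    rw [MonoidHom.pow_apply, lin_mul (lin_inv h2) h1 x hx, one_pow]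
  have hΩ : ∀ (μ : Gt →* ℂˣ) (i : I), Lin G μ → Ω (fun x => (μ x : ℂ) * χ i x) = fun x => (rl C μ x : ℂ) * ψ i x :=
    fun μ i hμ => by
      have h1 : (fun x => (μ x : ℂ) * χ i x) ∈ S := ⟨μ, i, hμ, rfl⟩
      exact (dif_pos h1).trans ((key hμ h1.choose_spec.choose_spec.1).1 h1.choose_spec.choose_spec.2).symm
  refine ⟨S, {φ | ∃ (ν : ↥(Gt ⊓ C) →* ℂˣ) (i : I), Lin (G ⊓ C) ν ∧ φ = fun x => (ν x : ℂ) * ψ i x}, Ω,
    ⟨?_, ?_, ⟨?_, ?_, ?_⟩, ?_, ?_, ?_, ?_, fun φ h1 h2 h3 => (b.out φ h1 h3).resolve_left h2,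
      fun φ h1 h2 h3 => (b'.out φ h1 h3).resolve_left h2⟩, fun _ h => h⟩
  · rintro _ ⟨μ, i, -, rfl⟩
    exact irr_lin μ (b.irr i)
  · rintro _ ⟨μ, i, -, rfl⟩
    exact irr_lin μ (b'.irr i)
  · rintro _ ⟨μ, i, hμ, rfl⟩
    exact ⟨_, i, rl_lin hμ, hΩ μ i hμ⟩
  · rintro _ ⟨μ, i, hμ, rfl⟩ _ ⟨μ', j, hμ', rfl⟩ e
    rw [hΩ μ i hμ, hΩ μ' j hμ'] at e
    exact (key hμ hμ').2 e
  · rintro _ ⟨ν, i, hν, rfl⟩
    obtain ⟨μ, hμ, rfl⟩ := rl_surj h L hν
    exact ⟨_, ⟨μ, i, hμ, rfl⟩, hΩ μ i hμ⟩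
  · rintro c hc _ ⟨μ, i, hμ, rfl⟩ χ' t
    have n1 : Nr Gt c := nr_of_all h.nT (L.le hc)
    have h1 : Lin G (μ.comp (cje n1.inv).toMonoidHom) := fun x hx => hμ _ (h.nN _ (inv_mem (L.le hc)) _ hx)
    have h2 : ∀ x y : Gt, (y : A) = c * x * c⁻¹ → μ.comp (cje n1.inv).toMonoidHom y = μ x := fun x y e =>
      congrArg μ (Subtype.ext (by
        change c⁻¹ * y * c⁻¹⁻¹ = x
        rw [e]
        group))
    have h3 : χ' = fun x => (μ.comp (cje n1.inv).toMonoidHom x : ℂ) * χ i x :=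
      t.uniq n1 fun x y e => by rw [h2 x y e, b.tr c (L.le hc) i x y e]
    subst h3
    refine ⟨⟨_, i, h1, rfl⟩, ?_⟩
    rw [hΩ _ i hμ, hΩ _ i h1]
    intro x y e
    beta_reduce
    rw [b'.tr c hc i x y e]
    exact congrArg (fun u : ℂˣ => (u : ℂ) * ψ i x) (h2 (inclusion inf_le_left x) (inclusion inf_le_left y) e)
  · rintro μ' hμ' _ ⟨μ, i, hμ, rfl⟩
    rw [tw_tw, hΩ _ i (lin_mul hμ' hμ), hΩ _ i hμ]
    exact ⟨⟨_, i, lin_mul hμ' hμ, rfl⟩, (tw_tw (rl C μ') (rl C μ) (ψ i)).symm⟩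
  · rintro _ ⟨μ, i, hμ, rfl⟩ z hz
    rw [hΩ _ i hμ]
    simp only [map_one, Units.val_one, one_mul]
    rw [b'.cen z hz, b.cen (inclusion inf_le_left z) hz, mul_right_comm]
    rfl
  · rintro _ ⟨μ, i, hμ, rfl⟩
    rw [hΩ _ i hμ, deg_tw, deg_tw, b.deg, b'.deg]

theorem good_tw [Finite A] {N Nt Nh : Subgroup A} (hle : N ≤ Nt) {ν : Nt →* ℂˣ} (hν : Lin N ν) {ψ : Nt → ℂ} {θ : N → ℂ}
    (h : Good N Nh F ψ θ) : Good N Nh F (fun x => (ν x : ℂ) * ψ x) θ := by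
  unfold Good at h ⊢
  rw [res_lin hle hν]
  exact h

end X0

theorem boxX_of (hF : BoxF) (hL : BoxXL) (hG : BoxXG) : BoxX := fun c hn h3 qs Z₀ hZ => by
  have F := hF c (Fin 3) hn 1 ⟨1, map_one _, by rw [map_one, one_mul]⟩
  obtain ⟨C, ψ, L, b', gd⟩ := hL c hn h3 qs Z₀ hZ
  obtain ⟨χ, b⟩ := hG c hn h3 Z₀
  obtain ⟨S, S', Ω, O, h⟩ := X0.om_of_base F.fr L b b'
  refine ⟨C, S, S', Ω, L, O, fun φ hφ => ?_⟩
  obtain ⟨ν, i, hν, rfl⟩ := h φ hφ
  exact (gd i).imp fun θ => X0.good_tw (inf_le_inf_right _ (As.le_t F.fr)) hν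

end Cfsg.Agent.MO.TA
end

-- part: MO/TA/XG
section
/-!
# MO, types `A` and `²A`: the global half of the exception (helper15)

* `XG.lh` : the linear characters; `XG.T` : the four base labels; `XG.df_le` : the defects of the other labels;
* `boxXG_of`.
-/

set_option autoImplicit false

namespace Cfsg.Agent.MO.TA

open Cfsg Subgroup Finset Cfsg.Agent.H577.GLB.Std Cfsg.Agent.H615.GU
open Cfsg.Agent.H112.GLB (shiftL)
open Cfsg.Agent.H614.GLn.RSt
open scoped MatrixGroups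

namespace XG

section lin

variable (c : D0) {ι : Type} [Fintype ι] [DecidableEq ι] (v : GL ι c.K)

theorem dt_mul (g h : c.Gt v) : c.dt (g * h).1 = c.dt g.1 * c.dt h.1 := by
  change Matrix.GeneralLinearGroup.det (g.1.left * c.act ι g.1.right h.1.left) = _
  rw [show g.1.right = 1 from g.2.2, map_one, map_mul]
  rfl

/-- the linear character with the label `a` -/
noncomputable def lh (a : ZMod c.M) : c.Gt v →* ℂˣ :=
  MonoidHom.mk' (fun g => Units.map (c.θ : c.K →* ℂ) (c.dt g.1) ^ expoZ c.Q c.M 1 a) fun g h => by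
    rw [dt_mul, map_mul, mul_zpow]

theorem lh_val (a : ZMod c.M) (g : c.Gt v) : (lh c v a g : ℂ) = c.lin a (c.dt g.1) := Units.val_zpow_eq_zpow_val _ _

theorem lh_lin (a : ZMod c.M) : Lin (c.G v) (lh c v a) := fun g hg => by
  change Units.map (c.θ : c.K →* ℂ) (c.dt g.1) ^ expoZ c.Q c.M 1 a = 1
  rw [show c.dt g.1 = 1 from hg.2.2, map_one, one_zpow]

seal _root_.Finset.card _root_.Finset.sum _root_.Matrix.det in
theorem lh_pow (F : c.Frm v) (hι : Nonempty ι) {a : ZMod c.M} (ha : TorZ c.Q c.M 1 a) (k : ℕ) :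
    lh c v a ^ k = 1 ↔ k • a = 0 := by
  have hM : (c.M : ℤ) ≠ 0 := by exact_mod_cast NeZero.ne c.M
  have hQ : c.Q - 1 ≠ 0 := by simpa using H421.HT.pow_sub_one_ne c.ctx.two Nat.one_pos
  have h1 : expoZ c.Q c.M 1 a * c.M = a.val * (c.Q - 1) := by
    rw [expoZ, pow_one]
    refine Int.ediv_mul_cancel ((ZMod.intCast_zmod_eq_zero_iff_dvd _ _).1 ?_)
    push_cast
    rw [ZMod.natCast_zmod_val, mul_comm, ← pow_one (c.Q : ZMod c.M)]
    exact ha
  have h2 : k • a = 0 ↔ c.Q - 1 ∣ expoZ c.Q c.M 1 a * k := by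
    rw [← mul_dvd_mul_iff_right hM, mul_right_comm, h1, mul_right_comm, mul_comm (c.Q - 1), mul_dvd_mul_iff_right hQ,
      ← ZMod.intCast_zmod_eq_zero_iff_dvd]
    push_cast
    rw [ZMod.natCast_zmod_val, nsmul_eq_mul, mul_comm]
  have h3 : ∀ g, (lh c v a ^ k) g = Units.map (c.θ : c.K →* ℂ) (c.dt g.1 ^ (expoZ c.Q c.M 1 a * k)) := fun g => by
    rw [map_zpow, zpow_mul, zpow_natCast]
    rfl
  rw [h2]
  refine ⟨fun e => ?_, fun ⟨j, e⟩ => MonoidHom.ext fun g => ?_⟩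
  · have h4 : (c.Q - 1).natAbs ∣ Nat.card c.Kˣ := by
      rw [c.ctx.card, ← Int.natCast_dvd_natCast, Int.natAbs_dvd]
      simpa only [_root_.pow_one] using c.ctx.dvd 1 Nat.one_pos (by omega)
    obtain ⟨y, hy⟩ := IsCyclic.exists_ofOrder_eq_natCard (α := c.Kˣ)
    have h5 := orderOf_pow_orderOf_div (x := y) (n := (c.Q - 1).natAbs) (by rw [hy]; exact Nat.card_pos.ne')
      (by rw [hy]; exact h4)
    obtain ⟨g, hg, e'⟩ := F.onto hι (y ^ (orderOf y / (c.Q - 1).natAbs)) (by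
      rw [← orderOf_dvd_iff_zpow_eq_one, h5, Int.natAbs_dvd])
    have h6 := (h3 ⟨g, hg⟩).symm.trans ((DFunLike.congr_fun e ⟨g, hg⟩ :))
    rw [← Int.natAbs_dvd, ← h5, orderOf_dvd_iff_zpow_eq_one, ← e']
    exact Units.map_injective (f := (c.θ : c.K →* ℂ)) c.ctx.inj (h6.trans (map_one _).symm)
  · rw [h3, e, zpow_mul, F.det _ g.2, one_zpow, map_one]
    rfl

end lin

section lab

variable {Q : ℤ} {M : ℕ} [NeZero M]

/-- the tuples of the base labels -/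
def be : Fin 4 → Fin 3 → ℕ := ![![0, 1, 5], ![0, 2, 4], ![1, 2, 3], ![0, 1, 3]]

/-- the orders -/
def oo : Fin 4 → ℕ := ![1, 1, 1, 3]

theorem be_facts : (∀ i, StrictMono (be i)) ∧ (∀ i j, be i = be j → i = j) ∧ (∀ i, be i ≠ ![0, 1, 2]) ∧
    (∀ i, oo i ∣ 3) ∧ (∀ i, oo i = 1 ∨ oo i = 3) ∧ ∀ i, oo i * bsz (be i) = 3 := by decide +kernel

theorem cases_be {β : Fin 3 → ℕ} (h : StrictMono β) (h3 : bsz β ≤ 3) :
    (bsz β = 0 ∧ β = ![0, 1, 2]) ∨ (bsz β = 1 ∧ β = be 3) ∨ (bsz β = 2 ∧ (β = ![0, 1, 4] ∨ β = ![0, 2, 3])) ∨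
      ∃ i, oo i = 1 ∧ bsz β = 3 ∧ β = be i := by
  have h1 : β 0 < β 1 := h (by decide)
  have h2 : β 1 < β 2 := h (by decide)
  have e : β = ![β 0, β 1, β 2] := funext fun i => by fin_cases i <;> rfl
  have h4 : β 0 + β 1 + β 2 ≤ 6 := by
    simp only [bsz, Fin.sum_univ_three, Fin.val_zero, Fin.val_one, Fin.val_two] at h3
    omega
  rw [e]
  generalize β 0 = x, β 1 = y, β 2 = z at h1 h2 h4
  have hz : z ≤ 6 := by omega
  interval_cases z <;> interval_cases y <;> interval_cases x <;> first | decide | omega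

theorem hk_eq (F : ℕ → ℕ) (β : Fin 3 → ℕ) (s : Multiset ℕ)
    (h : ((univ.sigma fun j => range (β j) \ (Iio j).image β).val.map fun x => β x.1 - x.2) = s) :
    hk F β = (s.map F).sum := by
  rw [hk, sum_sigma', ← h, Multiset.map_map]
  rfl

theorem tor3 (hM : 3 ∣ M) :
    ∃ a : ZMod M, 3 • a = 0 ∧ a ≠ 0 := by
  have := Fact.mk Nat.prime_three
  obtain ⟨a, ha⟩ := exists_prime_addOrderOf_dvd_card' (G := ZMod M) 3 (by rwa [Nat.card_zmod])
  exact ⟨a, ha ▸ addOrderOf_nsmul_eq_zero a, fun h => by simp [h] at ha⟩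

theorem filter3 {a : ZMod M} (h3 : 3 • a = 0) (h0 : a ≠ 0) :
    a ≠ -a ∧ (univ.filter fun c : ZMod M => 3 • c = 0) = {0, a, -a} := by
  have h1 : a ≠ -a := fun h => h0 (by linear_combination (norm := (simp only [nsmul_eq_mul]; ring)) h3 - h)
  refine ⟨h1, (eq_of_subset_of_card_le (fun x hx => ?_) ?_).symm⟩
  · simp only [mem_insert, mem_singleton] at hx
    rcases hx with rfl | rfl | rfl <;> simp only [mem_filter, mem_univ, true_and, smul_zero, smul_neg, h3, neg_zero]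
  · rw [card_eq_three.2 ⟨0, a, -a, h0.symm, (neg_ne_zero.2 h0).symm, h1, rfl⟩]
    exact IsAddCyclic.card_nsmul_eq_zero_le (by norm_num)

theorem sum_oo (hM : 3 ∣ M) (i : Fin 4) : #{c : ZMod M | oo i • c = 0} = oo i ∧ ∑ c : ZMod M with oo i • c = 0, c = 0 := by
  obtain ⟨a, h3, h0⟩ := tor3 hM
  obtain ⟨h1, e⟩ := filter3 h3 h0
  rcases be_facts.2.2.2.2.1 i with h | h <;> rw [h]
  · simp [filter_eq']
  · rw [e, card_eq_three.2 ⟨0, a, -a, h0.symm, (neg_ne_zero.2 h0).symm, h1, rfl⟩,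
      sum_insert (by simp [h0, h0.symm]), sum_pair h1, zero_add, add_neg_cancel]
    exact ⟨rfl, rfl⟩

omit [NeZero M] in
theorem oo_mul (i : Fin 4) {u : ZMod M} (hu : IsUnit u) (c : ZMod M) : oo i • (u * c) = 0 ↔ oo i • c = 0 := by
  rw [← mul_smul_comm, hu.mul_right_eq_zero]

/-- the base labels -/
def T (hQ : IsUnit (Q : ZMod M)) (hM : 3 ∣ M) (i : Fin 4) : LabZ Q M 3 3 where
  t c := if oo i • c = 0 then be i else ![0, 1, 2]
  mono c := by
    split_ifs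
    · exact be_facts.1 i
    · decide
  orb c := by simp only [oo_mul i hQ]
  sum := by
    simp only [apply_ite bsz, show bsz ![0, 1, 2] = 0 from rfl]
    rw [← sum_filter, sum_const, (sum_oo hM i).1]
    exact be_facts.2.2.2.2.2 i

variable {hQ : IsUnit (Q : ZMod M)} {hM : 3 ∣ M}

theorem mulL_T (i : Fin 4) (k : (ZMod M)ˣ) : mulL (T hQ hM i) k = T hQ hM i :=
  LabZ.ext (funext fun c => by simp only [mulL, T, oo_mul i k.isUnit])

theorem tot_T (i : Fin 4) : tot (T hQ hM i) = 0 := by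
  simp only [tot, T, apply_ite bsz, show bsz ![0, 1, 2] = 0 from rfl, ite_smul, zero_smul]
  rw [← sum_filter, ← smul_sum, (sum_oo hM i).2, smul_zero]

theorem shift_T {a : ZMod M} (ha : TorZ Q M 1 a) (i j : Fin 4) :
    shiftL (T hQ hM i) ha = T hQ hM j ↔ i = j ∧ oo i • a = 0 := by
  refine ⟨fun e => ?_, ?_⟩
  · have h1 := congrFun (congrArg LabZ.t e) a
    simp only [shiftL, T, sub_self, smul_zero, if_true] at h1
    split_ifs at h1 with h
    · obtain rfl := be_facts.2.1 i j h1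
      exact ⟨rfl, h⟩
    · exact absurd h1 (be_facts.2.2.1 i)
  · rintro ⟨rfl, h⟩
    exact LabZ.ext (funext fun c => by simp only [shiftL, T, smul_sub, h, sub_zero])

theorem sum_reps (hQ : IsUnit (Q : ZMod M)) {m n : ℕ} (t : LabZ Q M m n) :
    ∑ c ∈ repsZ Q M, perZ Q M c * bsz (t.t c) = n := by
  classical
  refine Eq.trans ?_ t.sum
  rw [← sum_fiberwise_of_maps_to (s := univ) (t := repsZ Q M) (g := canon Q M) fun c _ => canon_mem_repsZ hQ c]
  refine sum_congr rfl fun d hd => ?_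
  rw [filter_congr fun c _ => show canon Q M c = d ↔ SameZ Q M d c by rw [← canon_eq_iff hQ, mem_repsZ.1 hd, eq_comm],
    sum_congr rfl fun c hc => by rw [H76.GLB.orb_same t (mem_filter.1 hc).2], sum_const, H76.GLB.card_same hQ, smul_eq_mul]

theorem three_dvd (h3 : vz 3 (Q - 1) = 1) : (3 : ℤ) ∣ Q - 1 :=
  (Int.natCast_dvd (m := 3)).2 (Nat.dvd_of_factorization_pos (h3.trans_ne one_ne_zero))

theorem vz_pow (h2 : 2 ≤ |Q|) (h3 : vz 3 (Q - 1) = 1) {k : ℕ} (hk : 0 < k) : vz 3 (Q ^ k - 1) = 1 + k.factorization 3 := by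
  rw [← h3]
  exact H421.HT.fac_pow Nat.prime_three (by decide) (three_dvd h3) (by simpa using H421.HT.pow_sub_one_ne h2 Nat.one_pos) hk
    (H421.HT.pow_sub_one_ne h2 hk)

theorem vz123 (h2 : 2 ≤ |Q|) (h3 : vz 3 (Q - 1) = 1) :
    vz 3 (Q ^ 1 - 1) = 1 ∧ vz 3 (Q ^ 2 - 1) = 1 ∧ vz 3 (Q ^ 3 - 1) = 2 := by
  rw [vz_pow h2 h3 two_pos, vz_pow h2 h3 three_pos, pow_one, Nat.prime_three.factorization_self,
    Nat.factorization_eq_zero_of_not_dvd (by decide)]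
  exact ⟨h3, rfl, rfl⟩

theorem vz_PH (h2 : 2 ≤ |Q|) (h3 : vz 3 (Q - 1) = 1) : vz 3 (PH Q 3) = 4 := by
  obtain ⟨a, b, c⟩ := vz123 h2 h3
  have h := fun k => H421.HT.pow_sub_one_ne h2 (Nat.succ_pos k)
  rw [PH, prod_range_succ, prod_range_succ, prod_range_one, vz, H421.HT.fac_mul (mul_ne_zero (h 0) (h 1)) (h 2),
    H421.HT.fac_mul (h 0) (h 1)]
  exact congrArg₂ (· + ·) (congrArg₂ (· + ·) a b) c

omit [NeZero M] in
theorem tor_of (h : (3 : ℤ) ∣ Q - 1) {c : ZMod M} (hc : 3 • c = 0) : TorZ Q M 1 c := by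
  obtain ⟨j, e⟩ := h
  have h1 : (Q : ZMod M) - 1 = 3 * j := by exact_mod_cast congrArg (Int.cast : ℤ → ZMod M) e
  rw [TorZ, pow_one, h1, mul_right_comm, show (3 : ZMod M) * c = 0 by simpa only [_root_.nsmul_eq_mul, _root_.Nat.cast_ofNat] using hc, zero_mul]

theorem df_T (h2 : 2 ≤ |Q|) (h3 : vz 3 (Q - 1) = 1) (i : Fin 4) : dfG 3 (T hQ hM i) + ![0, 0, 0, 1] i = 4 := by
  obtain ⟨a, b, c⟩ := vz123 h2 h3
  have h1 : ∀ x : ZMod M, oo i • x = 0 → perZ Q M x = 1 := fun x hx => by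
    refine Nat.dvd_one.1 ((torZ_iff 1 x).1 (tor_of (three_dvd h3) ?_))
    obtain ⟨j, e⟩ := be_facts.2.2.2.1 i
    rw [e, mul_comm, mul_smul, hx, smul_zero]
  have h4 : dfG 3 (T hQ hM i) = ∑ x : ZMod M with oo i • x = 0, hk (fun h => vz 3 (Q ^ h - 1)) (be i) := by
    rw [dfG, ← sum_filter_add_sum_filter_not _ fun x => oo i • x = 0, sum_eq_zero (s := filter (fun x => ¬ _) _) fun x hx => ?_,
      add_zero]
    · refine sum_congr (ext fun x => ?_) fun x hx => ?_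
      · simp only [mem_filter, mem_univ, true_and, and_iff_right_iff_imp]
        intro hx
        obtain ⟨j, e⟩ := sameZ_canon (Q := Q) x
        rw [mem_repsZ, e, pow_mul_eq_iff, h1 x hx]
        exact one_dvd _
      · rw [h1 x (mem_filter.1 hx).2, pow_one]
        exact congrArg _ (if_pos (mem_filter.1 hx).2)
    · rw [show (T hQ hM i).t x = ![0, 1, 2] from if_neg (mem_filter.1 hx).2, hk_eq _ _ 0 (by decide)]
      rfl
  rw [h4, sum_const, (sum_oo hM i).1]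
  fin_cases i
  · rw [hk_eq _ _ {3, 2, 1} (by decide)]
    simp [oo, b, c, h3]
  · rw [hk_eq _ _ {3, 1, 1} (by decide)]
    simp [oo, c, h3]
  · rw [hk_eq _ _ {3, 2, 1} (by decide)]
    simp [oo, b, c, h3]
  · rw [hk_eq _ _ {1} (by decide)]
    simp [oo, h3]

theorem hk_le (h2 : 2 ≤ |Q|) (h3 : vz 3 (Q - 1) = 1) {β : Fin 3 → ℕ} (h : StrictMono β) (hb : bsz β ≠ 3) {e : ℕ}
    (he : 0 < e) (hle : e * bsz β ≤ 3) : hk (fun h => vz 3 ((Q ^ e) ^ h - 1)) β ≤ e * bsz β ∧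
      (e ≠ 1 → 3 * hk (fun h => vz 3 ((Q ^ e) ^ h - 1)) β ≤ 2 * (e * bsz β)) := by
  obtain ⟨a, b, c⟩ := vz123 h2 h3
  rcases cases_be h (by nlinarith only [he, hle]) with ⟨h0, rfl⟩ | ⟨h0, rfl⟩ | ⟨h0, h1⟩ | ⟨i, -, h0, -⟩
  · rw [hk_eq _ _ 0 (by decide)]
    simp
  · rw [h0, mul_one] at hle
    rw [hk_eq _ _ {1} (by decide), h0, mul_one]
    interval_cases e <;> simp [h3, b, c]
  · obtain rfl : e = 1 := by nlinarith only [he, hle, h0]
    rcases h1 with rfl | rfl <;> rw [hk_eq _ _ {2, 1} (by decide), h0] <;> simp [h3, b]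
  · exact absurd h0 hb

theorem df_le (hQ : IsUnit (Q : ZMod M)) (h2 : 2 ≤ |Q|) (h3 : vz 3 (Q - 1) = 1) (t : LabZ Q M 3 3)
    (hb : ∀ c, bsz (t.t c) ≠ 3) : dfG 3 t ≤ 3 ∧ ((∀ c, bsz (t.t c) ≠ 0 → ¬ TorZ Q M 1 c) → dfG 3 t ≤ 2) := by
  have h1 := sum_reps hQ t
  have h4 := fun c (hc : c ∈ repsZ Q M) => hk_le h2 h3 (t.mono c) (hb c) (perZ_pos hQ c)
    ((single_le_sum (f := fun c => perZ Q M c * bsz (t.t c)) (fun _ _ => Nat.zero_le _) hc).trans h1.le)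
  refine ⟨(sum_le_sum fun c hc => (h4 c hc).1).trans h1.le, fun h => ?_⟩
  have h5 : 3 * dfG 3 t ≤ 2 * ∑ c ∈ repsZ Q M, perZ Q M c * bsz (t.t c) := by
    rw [dfG, mul_sum, mul_sum]
    refine sum_le_sum fun c hc => ?_
    by_cases h0 : bsz (t.t c) = 0
    · have := (h4 c hc).1
      rw [h0] at this ⊢
      omega
    · exact (h4 c hc).2 fun e => h c h0 ((torZ_iff 1 c).2 e.dvd)
  omega

/-- a label with prescribed sizes is a translate of a base label -/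
theorem eq_shift (t : LabZ Q M 3 3) {a : ZMod M} (ha : TorZ Q M 1 a) (i : Fin 4)
    (h : ∀ c, oo i • (c - a) = 0 → t.t c = be i) : t = shiftL (T hQ hM i) ha := by
  have h1 : ∀ c, bsz ((shiftL (T hQ hM i) ha).t c) ≤ bsz (t.t c) := fun c => by
    by_cases hc : oo i • (c - a) = 0
    · rw [h c hc]
      exact (congrArg bsz (if_pos hc)).le
    · exact (congrArg bsz (if_neg hc)).trans_le (Nat.zero_le _)
  have h2 := (sum_eq_sum_iff_of_le fun c (_ : c ∈ univ) => h1 c).1 ((shiftL (T hQ hM i) ha).sum.trans t.sum.symm)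
  refine LabZ.ext (funext fun c => ?_)
  by_cases hc : oo i • (c - a) = 0
  · exact (h c hc).trans (if_pos hc).symm
  · have h3 : bsz (t.t c) = 0 := (h2 c (mem_univ c)).symm.trans (congrArg bsz (if_neg hc))
    rcases cases_be (t.mono c) (by omega) with ⟨-, e⟩ | ⟨e, -⟩ | ⟨e, -⟩ | ⟨_, -, e, -⟩
    · exact e.trans (if_neg hc).symm
    all_goals omega

theorem bsz_le (t : LabZ Q M 3 3) (s : Finset (ZMod M)) : ∑ c ∈ s, bsz (t.t c) ≤ 3 :=
  (sum_le_sum_of_subset (subset_univ s)).trans t.sum.le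

/-- the labels of small degree -/
theorem label_cases (h2 : 2 ≤ |Q|) (h3 : vz 3 (Q - 1) = 1) (t : LabZ Q M 3 3) :
    (∃ a, ∃ (ha : TorZ Q M 1 a), ∃ i, t = shiftL (T hQ hM i) ha) ∨ (dfG 3 t ≤ 3 ∧
      ∀ a (ha : TorZ Q M 1 a), 3 • a = 0 → a ≠ 0 → shiftL t ha = t → dfG 3 t ≤ 2) := by
  by_cases hb : ∃ c, bsz (t.t c) = 3
  · obtain ⟨c, hc⟩ := hb
    have h1 : (Q : ZMod M) * c = c := by
      by_contra h
      have := bsz_le t {(Q : ZMod M) * c, c}
      rw [sum_pair h, t.orb] at this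
      omega
    rcases cases_be (t.mono c) hc.le with ⟨e, -⟩ | ⟨e, -⟩ | ⟨e, -⟩ | ⟨i, hi, -, e⟩
    any_goals omega
    refine Or.inl ⟨c, by rw [TorZ, pow_one, sub_mul, h1, one_mul, sub_self], i, eq_shift t _ i fun x hx => ?_⟩
    rw [hi, one_smul, sub_eq_zero] at hx
    rw [hx, e]
  rw [not_exists] at hb
  obtain ⟨h4, h5⟩ := df_le hQ h2 h3 t hb
  by_cases h : ∀ c, bsz (t.t c) ≠ 0 → ¬ TorZ Q M 1 c
  · exact Or.inr ⟨h4, fun _ _ _ _ _ => h5 h⟩
  push Not at h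
  obtain ⟨c, hc0, hc⟩ := h
  refine or_iff_not_imp_left.2 fun hn => ⟨h4, fun a ha ha3 ha0 e => absurd ⟨c, hc, 3, eq_shift t hc 3 fun x hx => ?_⟩ hn⟩
  obtain ⟨h6, h7⟩ := filter3 ha3 ha0
  have h8 : ∀ x, t.t (x - a) = t.t x := fun x => congrFun (congrArg LabZ.t e) x
  have h9 : t.t (c + a) = t.t c := by rw [← h8, add_sub_cancel_right]
  have h10 : t.t x = t.t c := by
    have h11 : x - c ∈ ({0, a, -a} : Finset (ZMod M)) := h7 ▸ mem_filter.2 ⟨mem_univ _, hx⟩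
    simp only [mem_insert, mem_singleton, sub_eq_iff_eq_add'] at h11
    rcases h11 with rfl | rfl | rfl
    · rw [add_zero]
    · exact h9
    · rw [← sub_eq_add_neg, h8]
  have h12 := bsz_le t {c, c + a, c - a}
  rw [sum_insert (by simp [ha0, eq_sub_iff_add_eq]), sum_pair (by simpa [sub_eq_add_neg] using h6), h8, h9] at h12
  rcases cases_be (t.mono c) (by omega) with ⟨e, -⟩ | ⟨-, e⟩ | ⟨e, -⟩ | ⟨_, -, e, -⟩
  any_goals omega
  exact h10.trans e

end lab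

end XG

open XG in
theorem boxXG_of (hF : BoxF) (hG : BoxG) : BoxXG := fun c hn h3 Z₀ => by
  have L : c.Lg (1 : GL (Fin 3) c.K) := ⟨1, map_one _, by rw [map_one, one_mul]⟩
  have F := hF c (Fin 3) hn 1 L
  obtain ⟨ch, G⟩ := hG c (Fin 3) hn 1 L 3 3 rfl le_rfl
  have h1 := three_dvd h3
  have hM : 3 ∣ c.M := by
    have := c.ctx.dvd 1 Nat.one_pos (by omega)
    rw [pow_one] at this
    exact_mod_cast h1.trans this
  have hp : 3 ≠ c.p := fun e => by
    have h4 : (3 : ℤ) ∣ c.Q := by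
      rw [c.hQ, ← e]
      exact (dvd_pow_self _ c.fpos.ne').mul_left _
    omega
  have inj : Function.Injective ch := fun t t' e => G.bij.injOn trivial trivial e
  have tw : ∀ a (ha : TorZ c.Q c.M 1 a) t, (fun x => (lh c.toD0 1 a x : ℂ) * ch t x) = ch (shiftL t ha) := fun a ha t =>
    funext fun x => by rw [lh_val, G.tw]
  have lin : ∀ μ : c.Gt (1 : GL (Fin 3) c.K) →* ℂˣ, Lin (c.G 1) μ → ∃ a, TorZ c.Q c.M 1 a ∧ μ = lh c.toD0 1 a :=
    fun μ hμ => (G.lin μ hμ).imp fun a h => ⟨h.1, MonoidHom.ext fun g => Units.ext ((h.2 g).trans (lh_val _ _ _ _).symm)⟩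
  have deg := fun t => (G.deg 3 Nat.prime_three hp t).trans (vz_PH c.ctx.two h3)
  refine ⟨fun i => ch (T c.ctx.unit hM i), fun i => G.bij.mapsTo trivial, fun a ha i => ?_, fun z hz i => ?_, fun i => ?_,
    fun μ hμ i j => ?_, fun φ hφ _ => ?_⟩
  · obtain ⟨k, hk⟩ := G.ex a.right
    have := G.tr a ha k hk (T c.ctx.unit hM i)
    rwa [mulL_T] at this
  · obtain ⟨-, x, hx⟩ := (F.cen z).1 hz
    rw [G.cen z x hx, tot_T, D0.lin, expoZ]
    simp
  · have := deg (T c.ctx.unit hM i)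
    have := df_T (hQ := c.ctx.unit) (hM := hM) c.ctx.two h3 i
    omega
  · obtain ⟨a, ha, rfl⟩ := lin μ hμ
    rw [tw a ha, inj.eq_iff, shift_T, lh_pow _ _ F ⟨0⟩ ha]
    rfl
  · obtain ⟨t, -, rfl⟩ := G.bij.surjOn hφ
    rcases label_cases (hQ := c.ctx.unit) (hM := hM) c.ctx.two h3 t with ⟨a, ha, i, rfl⟩ | ⟨h4, h5⟩
    · exact Or.inl ⟨_, i, lh_lin _ _ a, (tw a ha _).symm⟩
    refine Or.inr ?_
    have h6 := deg t
    have h0 : (c.Q - 1).natAbs ≠ 0 := fun e => by simp [vz, e] at h3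
    have h0' := ne_zero_of_dvd_ne_zero h0 (Int.natCast_dvd.1 (G.ycd t))
    have h7 : (yc (c.G 1) (ch t)).factorization 3 ≤ 1 :=
      ((Nat.factorization_le_iff_dvd h0' h0).2 (Int.natCast_dvd.1 (G.ycd t)) 3).trans h3.le
    by_cases h8 : 3 ∣ yc (c.G 1) (ch t)
    · let Y : Subgroup (c.Gt (1 : GL (Fin 3) c.K) →* ℂˣ) :=
        { carrier := {μ | Lin (c.G 1) μ ∧ ∀ x, (μ x : ℂ) * ch t x = ch t x}
          one_mem' := ⟨fun _ _ => rfl, fun _ => one_mul _⟩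
          mul_mem' := fun {μ ν} hμ hν => ⟨X0.lin_mul hμ.1 hν.1, fun x => by
            rw [MonoidHom.mul_apply, Units.val_mul, mul_assoc, hν.2, hμ.2]⟩
          inv_mem' := fun {μ} hμ => ⟨X0.lin_inv hμ.1, fun x => by
            rw [MonoidHom.inv_apply, Units.inv_mul_eq_iff_eq_mul, hμ.2]⟩ }
      have := Fact.mk Nat.prime_three
      have : Finite Y := Nat.finite_of_card_ne_zero h0'
      obtain ⟨μ, hμ⟩ := exists_prime_orderOf_dvd_card' (G := Y) 3 h8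
      obtain ⟨a, ha, e⟩ := lin μ.1 μ.2.1
      have h9 : ∀ k, μ ^ k = 1 ↔ k • a = 0 := fun k => by
        rw [← lh_pow _ _ F ⟨0⟩ ha, ← e, Subtype.ext_iff]
        rfl
      have := h5 a ha ((h9 3).1 (orderOf_dvd_iff_pow_eq_one.1 hμ.dvd)) (fun h => by
        have := (h9 1).2 (by rw [h, smul_zero])
        rw [pow_one] at this
        simp [this] at hμ) (inj (by rw [← tw a ha, ← e]; exact funext μ.2.2))
      omega
    · rw [Nat.factorization_eq_zero_of_not_dvd h8]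
      omega

end Cfsg.Agent.MO.TA
end

-- part: MO/S3/Fin
section
/-!
# MO/S3: the subgroups of order prime to `3` of `GL₂(3)` which contain the diagonal four-group (helper77)

* `tri S` : the number of the triples `(a, c, v)` with commuting `a`, `c ∈ S` which fix `v`;
* `tri_eq` : `tri S = 9 * |S|`.
-/

set_option autoImplicit false
set_option synthInstance.maxSize 4096

namespace Cfsg.Agent.MO.S3

abbrev V : Type := ZMod 3 × ZMod 3

abbrev Mx : Type := V × V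

/-- the columns of `m` are the images of the basis vectors -/
def ap (m : Mx) (v : V) : V := (v.1 * m.1.1 + v.2 * m.2.1, v.1 * m.1.2 + v.2 * m.2.2)

def mu (a c : Mx) : Mx := (ap a c.1, ap a c.2)

def un : Mx := ((1, 0), (0, 1))

def tri (S : Finset Mx) : ℕ := ∑ a ∈ S, ∑ c ∈ S, ∑ v : V, if mu c a = mu a c ∧ ap a v = v ∧ ap c v = v then 1 else 0

def sx : Mx := ((2, 0), (0, 1))

def ng : Mx := ((2, 0), (0, 2))

def d4 : List Mx := [un, ng, sx, mu ng sx]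

def d8 : List Mx := d4 ++ [((0, 1), (1, 0)), ((0, 1), (2, 0)), ((0, 2), (1, 0)), ((0, 2), (2, 0))]

def d16 : List Mx := d8 ++ [((1, 1), (1, 2)), ((1, 1), (2, 1)), ((1, 2), (1, 1)), ((1, 2), (2, 2)), ((2, 1), (1, 1)),
  ((2, 1), (2, 2)), ((2, 2), (1, 2)), ((2, 2), (2, 1))]

/-- the words -/
def wd (g : Mx) : List Mx := [un, g, mu (mu g sx) g, mu g g, mu (mu (mu g sx) g) g, mu (mu g g) g]

theorem t4 : tri d4.toFinset = 9 * d4.toFinset.card := by decide +kernel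

theorem t8 : tri d8.toFinset = 9 * d8.toFinset.card := by decide +kernel

private noncomputable def _root_.Cfsg.Agent.LsF.ff8bae9_0 : {f // @Cfsg.Agent.MO.S3.ap = f} := ⟨_, by first | (delta Cfsg.Agent.MO.S3.ap; rewrite [Cfsg.Agent.LsF.zadd_pat, Cfsg.Agent.LsF.zmul_pat]; exact rfl) | exact rfl⟩
private noncomputable def _root_.Cfsg.Agent.LsF.ff8bae9_1 : {f // @Cfsg.Agent.MO.S3.mu = f} := ⟨_, by first | (delta Cfsg.Agent.MO.S3.mu; rewrite [Cfsg.Agent.LsF.ff8bae9_0.2]; exact rfl) | exact rfl⟩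
private noncomputable def _root_.Cfsg.Agent.LsF.ff8bae9_2 : {f // @Cfsg.Agent.MO.S3.tri = f} := ⟨_, by first | (delta Cfsg.Agent.MO.S3.tri; rewrite [Cfsg.Agent.LsF.ff8bae9_1.2, Cfsg.Agent.LsF.ff8bae9_0.2, Cfsg.Agent.LsF.zdecEq_eq, Cfsg.Agent.LsF.dProdEq_eq, Cfsg.Agent.LsF.zFintype_eq, Cfsg.Agent.LsF.prodFintype_eq, Cfsg.Agent.LsF.fsum_eq, Cfsg.Agent.LsF.nACM_eq, Cfsg.Agent.LsF.dAnd_eq, Cfsg.Agent.LsF.ite_eq]; exact rfl) | exact rfl⟩
private noncomputable def _root_.Cfsg.Agent.LsF.ff8bae9_3 : {f // @Cfsg.Agent.MO.S3.d4 = f} := ⟨_, by first | (delta Cfsg.Agent.MO.S3.d4; rewrite [Cfsg.Agent.LsF.ff8bae9_1.2]; exact rfl) | exact rfl⟩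
private noncomputable def _root_.Cfsg.Agent.LsF.ff8bae9_4 : {f // @Cfsg.Agent.MO.S3.d8 = f} := ⟨_, by first | (delta Cfsg.Agent.MO.S3.d8; rewrite [Cfsg.Agent.LsF.ff8bae9_3.2, Cfsg.Agent.LsF.lappend_pat]; exact rfl) | exact rfl⟩
private noncomputable def _root_.Cfsg.Agent.LsF.ff8bae9_5 : {f // @Cfsg.Agent.MO.S3.d16 = f} := ⟨_, by first | (delta Cfsg.Agent.MO.S3.d16; rewrite [Cfsg.Agent.LsF.ff8bae9_4.2, Cfsg.Agent.LsF.lappend_pat]; exact rfl) | exact rfl⟩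
theorem t16 : tri d16.toFinset = 9 * d16.toFinset.card := by (refine of_decide_eq_true ?_; (try (rewrite [Cfsg.Agent.LsF.ff8bae9_2.2, Cfsg.Agent.LsF.ff8bae9_5.2, Cfsg.Agent.LsF.nmul_pat, Cfsg.Agent.LsF.zdecEq_eq, Cfsg.Agent.LsF.dProdEq_eq, Cfsg.Agent.LsF.fcard_eq, Cfsg.Agent.LsF.toFinset_eq, Cfsg.Agent.LsF.instDecEq_eq, Cfsg.Agent.LsF.decide_eq])); decide +kernel)

theorem w8 : ∀ g ∈ d8, g ∉ d4 → ∀ m ∈ d8, ∃ d ∈ d4, ∃ w ∈ wd g, mu d w = m := by decide +kernel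

private noncomputable def _root_.Cfsg.Agent.LsF.ff8bae9_6 : {f // @Cfsg.Agent.MO.S3.wd = f} := ⟨_, by first | (delta Cfsg.Agent.MO.S3.wd; rewrite [Cfsg.Agent.LsF.ff8bae9_1.2]; exact rfl) | exact rfl⟩
theorem w16 : ∀ g ∈ d16, g ∉ d8 → ∀ m ∈ d16, ∃ d ∈ d4, ∃ w ∈ wd g, mu d w = m := by (refine of_decide_eq_true ?_; (try (rewrite [Cfsg.Agent.LsF.ff8bae9_5.2, Cfsg.Agent.LsF.ff8bae9_4.2, Cfsg.Agent.LsF.ff8bae9_3.2, Cfsg.Agent.LsF.ff8bae9_6.2, Cfsg.Agent.LsF.ff8bae9_1.2, Cfsg.Agent.LsF.zdecEq_eq, Cfsg.Agent.LsF.dProdEq_eq, Cfsg.Agent.LsF.zFintype_eq, Cfsg.Agent.LsF.prodFintype_eq, Cfsg.Agent.LsF.dForall_eq, Cfsg.Agent.LsF.dNot_eq, Cfsg.Agent.LsF.dBEx_eq, Cfsg.Agent.LsF.dMem_eq, Cfsg.Agent.LsF.dAllP_eq, Cfsg.Agent.LsF.decide_eq])); decide +kernel)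

theorem c16 : ∀ g : Mx, (∀ v, ap g v = 0 → v = 0) → (∀ d ∈ d4, mu (mu d g) (mu (mu d g) (mu d g)) = un → mu d g = un) →
    g ∈ d16 := by (refine of_decide_eq_true ?_; (try (rewrite [Cfsg.Agent.LsF.ff8bae9_0.2, Cfsg.Agent.LsF.ff8bae9_3.2, Cfsg.Agent.LsF.ff8bae9_1.2, Cfsg.Agent.LsF.ff8bae9_5.2, Cfsg.Agent.LsF.zdecEq_eq, Cfsg.Agent.LsF.dProdEq_eq, Cfsg.Agent.LsF.zFintype_eq, Cfsg.Agent.LsF.prodFintype_eq, Cfsg.Agent.LsF.dForall_eq, Cfsg.Agent.LsF.dMem_eq, Cfsg.Agent.LsF.dAllP_eq, Cfsg.Agent.LsF.decide_eq])); decide +kernel)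

theorem ng_aux' : ∀ g : Mx, (∀ v, ap g v = 0 → v = 0) → g.1.2 = 0 → g.2.2 = 2 →
    (∀ m ∈ [mu g g, mu (mu g sx) (mu g sx)], mu m (mu m m) = un → m = un) → ng = g ∨ ng = mu g sx := by (refine of_decide_eq_true ?_; (try (rewrite [Cfsg.Agent.LsF.ff8bae9_0.2, Cfsg.Agent.LsF.ff8bae9_1.2, Cfsg.Agent.LsF.zdecEq_eq, Cfsg.Agent.LsF.dProdEq_eq, Cfsg.Agent.LsF.zFintype_eq, Cfsg.Agent.LsF.prodFintype_eq, Cfsg.Agent.LsF.dForall_eq, Cfsg.Agent.LsF.dOr_eq, Cfsg.Agent.LsF.dMem_eq, Cfsg.Agent.LsF.dAllP_eq, Cfsg.Agent.LsF.decide_eq])); decide +kernel)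

theorem tri_eq {S : Finset Mx} (hm : ∀ a ∈ S, ∀ c ∈ S, mu a c ∈ S) (hd : ∀ a ∈ S, ∀ v, ap a v = 0 → v = 0)
    (h3 : ∀ a ∈ S, mu a (mu a a) = un → a = un) (hs : sx ∈ S) {r : Mx} (hr : r ∈ S) (h1 : r.1.2 = 0) (h2 : r.2.2 = 2) :
    tri S = 9 * S.card := by
  have k1 : ng ∈ S := by
    rcases ng_aux' r (hd _ hr) h1 h2 (by
      simp only [List.mem_cons, List.not_mem_nil, or_false]
      rintro m (rfl | rfl)
      · exact h3 _ (hm _ hr _ hr)
      · exact h3 _ (hm _ (hm _ hr _ hs) _ (hm _ hr _ hs))) with h | h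
    · exact h ▸ hr
    · exact h ▸ hm _ hr _ hs
  have k0 : un ∈ S := (by decide +kernel : mu sx sx = un) ▸ hm _ hs _ hs
  have k2 : ∀ d ∈ d4, d ∈ S := by
    simp only [d4, List.mem_cons, List.not_mem_nil, or_false]
    rintro d (rfl | rfl | rfl | rfl)
    exacts [k0, k1, hs, hm _ k1 _ hs]
  have k4 : ∀ g ∈ S, ∀ m, (∃ d ∈ d4, ∃ w ∈ wd g, mu d w = m) → m ∈ S := by
    rintro g hg _ ⟨d, hd, w, hw, rfl⟩
    refine hm _ (k2 _ hd) _ ?_
    simp only [wd, List.mem_cons, List.not_mem_nil, or_false] at hw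
    rcases hw with rfl | rfl | rfl | rfl | rfl | rfl
    exacts [k0, hg, hm _ (hm _ hg _ hs) _ hg, hm _ hg _ hg, hm _ (hm _ (hm _ hg _ hs) _ hg) _ hg, hm _ (hm _ hg _ hg) _ hg]
  by_cases c8 : ∀ g ∈ S, g ∈ d8
  · by_cases c4 : ∀ g ∈ S, g ∈ d4
    · rw [show S = d4.toFinset from Finset.ext fun d => ⟨fun h => List.mem_toFinset.2 (c4 d h),
        fun h => k2 d (List.mem_toFinset.1 h)⟩]
      exact t4
    · push Not at c4
      obtain ⟨g, hg, hn⟩ := c4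
      rw [show S = d8.toFinset from Finset.ext fun d => ⟨fun h => List.mem_toFinset.2 (c8 d h),
        fun h => k4 g hg d (w8 g (c8 g hg) hn d (List.mem_toFinset.1 h))⟩]
      exact t8
  · push Not at c8
    obtain ⟨g, hg, hn⟩ := c8
    have c : ∀ a ∈ S, a ∈ d16 := fun a ha => c16 a (hd a ha) fun d h => h3 _ (hm _ (k2 d h) _ ha)
    rw [show S = d16.toFinset from Finset.ext fun d => ⟨fun h => List.mem_toFinset.2 (c d h),
      fun h => k4 g hg d (w16 g (c g hg) hn d (List.mem_toFinset.1 h))⟩]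
    exact t16

end Cfsg.Agent.MO.S3
end

-- part: MO/S3/Cnt
section
/-!
# MO/S3: the count for a subgroup of the normaliser (helper77)

* `kerAb P` : the elements of the normaliser of `P` which act trivially on `P / P'`;
* `k0_eq` : `k0 3 U = 9 * |kerAb P : P|`;
* `kk_twist`, `k0_eq_mul` : the count over `l` does not depend on `l` if the linear characters of `Z` extend.
-/

set_option autoImplicit false

namespace Cfsg.Agent.MO.S3

open Cfsg Subgroup Cfsg.Agent.MO.T Cfsg.Agent.MO.L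
open Cfsg.Agent.MK (Ov)

section act

variable {H W : Type} [Group H] [AddCommGroup W] [DistribMulAction H W] (e : V ≃+ W)

/-- the matrix of an element -/
def mat (h : H) : Mx := (e.symm (h • e (1, 0)), e.symm (h • e (0, 1)))

theorem ap_mat (h : H) (v : V) : e (ap (mat e h) v) = h • e v := by
  have h1 : ∀ v : V, v = v.1.val • ((1, 0) : V) + v.2.val • ((0, 1) : V) := by decide
  have h2 : ∀ (m : Mx) (v : V), ap m v = v.1.val • m.1 + v.2.val • m.2 := fun m v => by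
    ext <;> simp only [ap, _root_.nsmul_eq_mul, _root_.ZMod.natCast_val, _root_.Prod.fst_add, _root_.Prod.fst_mul, _root_.Prod.fst_zmod_cast, _root_.ZMod.cast_id', _root_.id_eq, _root_.Prod.snd_add, _root_.Prod.snd_mul, _root_.Prod.snd_zmod_cast]
  conv_rhs => rw [h1 v]
  rw [h2, map_add, map_add, map_nsmul, map_nsmul, map_nsmul, map_nsmul, smul_add, smul_comm h, smul_comm h, mat,
    e.apply_symm_apply, e.apply_symm_apply]

theorem mat_mul (a c : H) : mat e (a * c) = mu (mat e a) (mat e c) := by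
  refine Prod.ext (e.injective ?_) (e.injective ?_) <;>
  · rw [mu, ap_mat]
    simp only [mat, e.apply_symm_apply, mul_smul]

theorem mat_eq_iff {a c : H} : mat e a = mat e c ↔ ∀ w : W, a • w = c • w := by
  refine ⟨fun h w => ?_, fun h => by simp only [mat, h]⟩
  obtain ⟨v, rfl⟩ := e.surjective w
  rw [← ap_mat, h, ap_mat]

theorem mat_one : mat e (1 : H) = un := by simp [mat, un]

theorem cnt [Finite H] (hH : ¬ 3 ∣ Nat.card H) (hc : ∀ a c : H, (∀ w : W, (c * a) • w = (a * c) • w) → c * a = a * c)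
    {s r : H} (hs : mat e s = sx) (h1 : (mat e r).1.2 = 0) (h2 : (mat e r).2.2 = 2) :
    Nat.card {t : (H × H) × W // t.1.2 * t.1.1 = t.1.1 * t.1.2 ∧ t.1.1 • t.2 = t.2 ∧ t.1.2 • t.2 = t.2} =
      9 * Nat.card {h : H // ∀ w : W, h • w = w} * Nat.card H := by
  classical
  have := Fintype.ofFinite H
  have : Fintype W := Fintype.ofEquiv V e.toEquiv
  set n := Nat.card {h : H // ∀ w : W, h • w = w} with hn
  have k1 : ∀ F : Mx → ℕ, ∑ a : H, F (mat e a) = n * ∑ m ∈ Finset.univ.image (mat e : H → Mx), F m := fun F => by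
    rw [Finset.sum_comp F, Finset.mul_sum]
    refine Finset.sum_congr rfl fun m hm => ?_
    obtain ⟨a, -, rfl⟩ := Finset.mem_image.1 hm
    rw [smul_eq_mul, ← Fintype.card_subtype, ← Nat.card_eq_fintype_card, hn]
    refine congrArg (· * _) (Nat.card_congr ((Equiv.mulLeft a⁻¹).subtypeEquiv fun c => ?_))
    simp only [mat_eq_iff, Equiv.coe_mulLeft, mul_smul, inv_smul_eq_iff]
  have k2 := tri_eq (S := Finset.univ.image (mat e : H → Mx)) (by
      simp only [Finset.forall_mem_image]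
      exact fun a _ c _ => Finset.mem_image.2 ⟨a * c, Finset.mem_univ _, mat_mul e a c⟩) (by
      simp only [Finset.forall_mem_image]
      intro a _ v hv
      have h := ap_mat e a v
      rw [hv, map_zero, eq_comm, smul_eq_zero_iff_eq] at h
      exact e.map_eq_zero_iff.1 h) (by
      simp only [Finset.forall_mem_image]
      intro a _ h
      rw [← mat_mul, ← mat_mul, ← mat_one (H := H) e, mat_eq_iff, ← pow_three] at h
      obtain ⟨k, hk⟩ := exists_pow_eq_self_of_coprime (x := a)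
        ((Nat.prime_three.coprime_iff_not_dvd.2 hH).coprime_dvd_right (_root_.orderOf_dvd_natCard a))
      rw [← mat_one (H := H) e, mat_eq_iff, ← hk]
      intro w
      clear hk
      induction k with
      | zero => rw [pow_zero]
      | succ k ih => rw [pow_succ, mul_smul, h, one_smul, ih, one_smul])
    (hs ▸ Finset.mem_image_of_mem _ (Finset.mem_univ s)) (Finset.mem_image_of_mem _ (Finset.mem_univ r)) h1 h2
  have k3 := k1 fun _ => 1
  rw [← Finset.card_eq_sum_ones, ← Finset.card_eq_sum_ones, Finset.card_univ, ← Nat.card_eq_fintype_card] at k3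
  have k4 : ∀ (a c : H) (v : V), (c * a = a * c ∧ a • e v = e v ∧ c • e v = e v) ↔
      (mu (mat e c) (mat e a) = mu (mat e a) (mat e c) ∧ ap (mat e a) v = v ∧ ap (mat e c) v = v) := fun a c v => by
    rw [← mat_mul, ← mat_mul, mat_eq_iff, ← ap_mat, ← ap_mat, e.apply_eq_iff_eq, e.apply_eq_iff_eq]
    exact and_congr_left' ⟨fun h _ => by rw [h], hc a c⟩
  rw [Nat.card_eq_fintype_card, Fintype.card_subtype, Finset.card_filter, Fintype.sum_prod_type, Fintype.sum_prod_type, k3,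
    mul_comm 9, mul_assoc, mul_left_comm 9, ← k2, tri]
  simp only [← e.toEquiv.sum_comp, AddEquiv.toEquiv_eq_coe, EquivLike.coe_coe, k4]
  rw [Finset.mul_sum, ← k1]
  exact Finset.sum_congr rfl fun a _ => k1 fun c => ∑ v : V, if mu c (mat e a) = mu (mat e a) c ∧
    ap (mat e a) v = v ∧ ap c v = v then 1 else 0

end act

variable {G : Type} [Group G]

/-- the elements which act trivially on `P / P'` -/
def kerAb (P : Subgroup G) : Subgroup G where
  carrier := {g | g ∈ normalizer (P : Set G) ∧ ∀ y ∈ P, ab P (g * y * g⁻¹) = ab P y}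
  one_mem' := ⟨one_mem _, fun y _ => by simp⟩
  mul_mem' := fun {a c} ha hc => ⟨mul_mem ha.1 hc.1, fun y hy => by
    rw [← hc.2 y hy, ← ha.2 _ ((mem_normalizer_iff.1 hc.1 y).1 hy), mul_inv_rev]
    simp only [mul_assoc]⟩
  inv_mem' := fun {a} ha => ⟨inv_mem ha.1, fun y hy => by
    rw [← ha.2 _ ((mem_normalizer_iff.1 (inv_mem ha.1) y).1 hy)]
    simp [mul_assoc]⟩

theorem ab_inv {P : Subgroup G} {x : G} (hx : x ∈ P) : ab P x⁻¹ = -ab P x := by
  rw [eq_neg_iff_add_eq_zero, ← ab_mul (inv_mem hx) hx, inv_mul_cancel, ab_one]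

theorem le_kerAb (P : Subgroup G) : P ≤ kerAb P := fun g hg => ⟨le_normalizer hg, fun y hy => by
  rw [ab_mul (mul_mem hg hy) (inv_mem hg), ab_mul hg hy, ab_inv hg, add_comm (ab P g), add_neg_cancel_right]⟩

variable [Finite G]

theorem k0_eq {X P U : Subgroup G} (hX : ∀ g h : G, g * h * g⁻¹ * h⁻¹ ∈ X) (hP : IsPGroup 3 P) (hK : kerAb P ≤ U)
    (hU : U ≤ normalizer (P : Set G)) (hi : ¬ 3 ∣ P.relIndex U) (hC : ∀ g ∈ X, g ∈ kerAb P → g ∈ P) (e : V ≃+ Ab P)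
    {a b s r : G} (ha : a ∈ P) (hb : b ∈ P) (ea : e (1, 0) = ab P a) (eb : e (0, 1) = ab P b) (hs : s ∈ U) (hr : r ∈ U)
    (sa : ab P (s * a * s⁻¹) = e (2, 0)) (sb : ab P (s * b * s⁻¹) = e (0, 1))
    (ra : ∃ y, ab P (r * a * r⁻¹) = e (y, 0)) (rb : ∃ w, ab P (r * b * r⁻¹) = e (w, 2)) :
    k0 3 U = 9 * P.relIndex (kerAb P) := by
  have : Fact (Nat.Prime 3) := ⟨Nat.prime_three⟩
  have hPU := (le_kerAb P).trans hK
  have := normal_subgroupOf_of_le_normalizer hU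
  obtain ⟨_, hact⟩ := exists_act hU
  have h1 := core (p := 3) hP hPU hact (α := 1) (fun _ => Iff.rfl) (fun _ => Iff.rfl) hi
  have h2 : ∀ x : U, (∀ w : Ab P, (x : U ⧸ P.subgroupOf U) • w = w) ↔ (x : G) ∈ kerAb P := fun x =>
    ⟨fun h => ⟨hU x.2, fun y hy => by rw [← hact x y hy, h]⟩, fun h w => by
      obtain ⟨y, hy, rfl⟩ := ab_surj w
      rw [hact x y hy, h.2 y hy]⟩
  have h3 := cnt (H := U ⧸ P.subgroupOf U) e hi (fun x y h => by
      obtain ⟨x, rfl⟩ := QuotientGroup.mk_surjective x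
      obtain ⟨y, rfl⟩ := QuotientGroup.mk_surjective y
      rw [← QuotientGroup.mk_mul, ← QuotientGroup.mk_mul, QuotientGroup.eq]
      refine hC _ ?_ ((h2 ((y * x)⁻¹ * (x * y))).1 fun w => ?_)
      · have h4 := hX x⁻¹ y⁻¹
        rwa [inv_inv, inv_inv, ← mul_inv_rev, mul_assoc] at h4
      · rw [QuotientGroup.mk_mul, QuotientGroup.mk_inv, QuotientGroup.mk_mul, QuotientGroup.mk_mul, mul_smul, ← h,
          inv_smul_smul])
    (s := (⟨s, hs⟩ : U)) (r := (⟨r, hr⟩ : U))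
    (by rw [mat, ea, eb, hact _ a ha, hact _ b hb, sa, sb, e.symm_apply_apply, e.symm_apply_apply, sx])
    (by obtain ⟨y, h⟩ := ra; rw [mat, ea, hact _ a ha, h, e.symm_apply_apply])
    (by obtain ⟨w, h⟩ := rb; rw [mat, eb, hact _ b hb, h, e.symm_apply_apply])
  have h4 : Nat.card {h : U ⧸ P.subgroupOf U // ∀ w : Ab P, h • w = w} = P.relIndex (kerAb P) := by
    have h5 := relIndex_ker ((kerAb P).subgroupOf U) (QuotientGroup.mk' (P.subgroupOf U))
    rw [QuotientGroup.ker_mk', relIndex_subgroupOf hK] at h5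
    rw [h5]
    refine Nat.card_congr (Equiv.subtypeEquivRight fun x => ?_)
    obtain ⟨x, rfl⟩ := QuotientGroup.mk_surjective x
    refine (h2 x).trans ⟨fun h => ⟨x, h, rfl⟩, ?_⟩
    rintro ⟨y, hy, h⟩
    exact (h2 x).1 (h ▸ (h2 y).2 hy)
  rw [fN_one, ← h4] at *
  refine Nat.eq_of_mul_eq_mul_right Nat.card_pos (h1.trans (Eq.trans (Nat.card_congr
    (Equiv.subtypeEquivRight fun t => ?_)) h3))
  obtain ⟨⟨x, y⟩, w⟩ := t
  obtain ⟨x, rfl⟩ := QuotientGroup.mk_surjective x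
  obtain ⟨z, hz, rfl⟩ := ab_surj w
  exact and_congr Iff.rfl (and_congr Iff.rfl (Eq.congr_left (congrArg _ (act_ab (α := 1) (fun _ => Iff.rfl) hz))))

variable {p : ℕ} {U Z : Subgroup G}

omit [Finite G] in
theorem kk_twist (μ : G →* ℂˣ) {l l' : G → ℂ} (h : ∀ z ∈ Z, l' z = μ z * l z) : kk p U Z l' = kk p U Z l := by
  have h1 : ∀ (ν : G →* ℂˣ) {ψ : U → ℂ}, PI p U ψ → PI p U fun x => ν x * ψ x := fun ν ψ hψ =>
    ⟨ODD.Red.isIrr_lin_mul (ν.comp U.subtype) hψ.1, by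
      rw [ODD.Red.charDegree_congr (ψ := ψ) (by simp)]
      exact hψ.2⟩
  refine Nat.card_congr
    { toFun := fun ψ => ⟨fun x => μ⁻¹ x * ψ.1 x, h1 _ ψ.2.1, fun z hz => ?_⟩
      invFun := fun ψ => ⟨fun x => μ x * ψ.1 x, h1 _ ψ.2.1, fun z hz => ?_⟩
      left_inv := fun ψ => Subtype.ext (funext fun x => by simp)
      right_inv := fun ψ => Subtype.ext (funext fun x => by simp) }
  · beta_reduce
    rw [ψ.2.2 z hz, h z hz]
    simp only [mul_assoc, _root_.MonoidHom.inv_apply, _root_.Units.val_inv_eq_inv_val, _root_.ne_eq, _root_.Units.ne_zero, _root_.not_false_eq_true, _root_.inv_mul_cancel_left₀, _root_.OneMemClass.coe_one, _root_.map_one, _root_.inv_one, _root_.Units.val_one, _root_.one_mul]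
  · beta_reduce
    rw [ψ.2.2 z hz, h z hz]
    simp only [mul_assoc, _root_.OneMemClass.coe_one, _root_.map_one, _root_.Units.val_one, _root_.one_mul]

theorem k0_eq_mul (hZ : Z ≤ center G) (hZU : Z ≤ U) (he : ∀ m : Z →* ℂˣ, ∃ μ : G →* ℂˣ, ∀ z : Z, μ z = m z) :
    k0 p U = Nat.card (Z →* ℂˣ) * kk p U Z fun _ => 1 := by
  choose L hL using he
  have := Fintype.ofFinite (Z →* ℂˣ)
  choose f hf using fun ψ : {ψ : U → ℂ // PI p U ψ} => MK.T.exists_cc hZU hZ ψ.2.1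
  have := finite_pi' (p := p) (G := U)
  rw [k0, ← Nat.card_congr (Equiv.sigmaFiberEquiv f), Nat.card_sigma, Nat.card_eq_fintype_card (α := Z →* ℂˣ),
    ← smul_eq_mul, ← Finset.card_univ, ← Finset.sum_const]
  refine Finset.sum_congr rfl fun m _ => (Eq.trans (Nat.card_congr
    { toFun := fun ψ => ⟨ψ.1.1, ψ.1.2, fun z hz => by
        beta_reduce
        rw [show L m z = m ⟨z, hz⟩ from hL m ⟨z, hz⟩]; exact (hf ψ.1 ⟨z, hz⟩).trans (by rw [ψ.2])⟩
      invFun := fun ψ => ⟨⟨ψ.1, ψ.2.1⟩, MonoidHom.ext fun z => Units.ext ((mul_right_cancel₀ ψ.2.1.one_ne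
        ((hf ⟨ψ.1, ψ.2.1⟩ z).symm.trans (by rw [← hL]; exact ψ.2.2 ⟨z, hZU z.2⟩ z.2)) : _))⟩
      left_inv := fun _ => rfl
      right_inv := fun _ => rfl }) (kk_twist (l' := fun g => (L m g :)) (L m) fun _ _ => (mul_one _).symm) : _)

/-- the linear characters of a central subgroup which meets `X` trivially extend -/
theorem exists_ext {X : Subgroup G} [X.Normal] (hX : ∀ g h : G, g * h * g⁻¹ * h⁻¹ ∈ X) (hZX : ∀ z ∈ Z, z ∈ X → z = 1)
    (m : Z →* ℂˣ) : ∃ μ : G →* ℂˣ, ∀ z : Z, μ z = m z := by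
  let _ : CommGroup (G ⧸ X) := { (inferInstance : Group (G ⧸ X)) with
    mul_comm := fun a b => by
      obtain ⟨a, rfl⟩ := QuotientGroup.mk_surjective a
      obtain ⟨b, rfl⟩ := QuotientGroup.mk_surjective b
      rw [← QuotientGroup.mk_mul, ← QuotientGroup.mk_mul, QuotientGroup.eq]
      have h := hX b⁻¹ a⁻¹
      rwa [inv_inv, inv_inv, ← mul_inv_rev, mul_assoc] at h }
  have h1 : Function.Injective ((QuotientGroup.mk' X).comp Z.subtype) :=
    (injective_iff_map_eq_one _).2 fun z hz => Subtype.ext (hZX z z.2 ((QuotientGroup.eq_one_iff _).1 hz))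
  obtain ⟨ν, hν⟩ := MonoidHom.domRestrict_surjective (M := ℂ) _ (m.comp (MonoidHom.ofInjective h1).symm.toMonoidHom)
  refine ⟨ν.comp (QuotientGroup.mk' X), fun z => ?_⟩
  exact (DFunLike.congr_fun hν (MonoidHom.ofInjective h1 z)).trans (congrArg m (MulEquiv.symm_apply_apply _ z))

theorem kk_eq_of_k0 {X U' : Subgroup G} [X.Normal] (hX : ∀ g h : G, g * h * g⁻¹ * h⁻¹ ∈ X) (hZ : Z ≤ center G)
    (hZX : ∀ z ∈ Z, z ∈ X → z = 1) (hU : Z ≤ U) (hU' : Z ≤ U') (h : k0 p U = k0 p U') (l : G → ℂ) :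
    kk p U Z l = kk p U' Z l := by
  refine kk_eq_of_hom hZ hU hU' fun m hm => ?_
  obtain ⟨μ, hμ⟩ := exists_ext hX hZX m
  have h1 : ∀ z ∈ Z, l z = μ z * (fun _ => (1 : ℂ)) z := fun z hz => by rw [mul_one, hμ ⟨z, hz⟩, hm ⟨z, hz⟩]
  rw [k0_eq_mul hZ hU (exists_ext hX hZX), k0_eq_mul hZ hU' (exists_ext hX hZX)] at h
  rw [kk_twist μ h1, kk_twist μ h1]
  exact Nat.eq_of_mul_eq_mul_left Nat.card_pos h

end Cfsg.Agent.MO.S3
end

-- part: MO/S3/Grp
section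
/-!
# MO/S3: groups of order `27` (helper77)

* `es27` : the commutator subgroup of a group of order `27` which is not abelian;
* `exists_co` : coordinates of `P / P'` which are adapted to a maximal subgroup;
* `k0_nine` : the count for `N(A) ⊓ N(P) ≤ U ≤ N(P)`.
-/

set_option autoImplicit false

namespace Cfsg.Agent.MO.S3

open Cfsg Subgroup Cfsg.Agent.MO.T Cfsg.Agent.MO.L
open scoped commutatorElement

theorem es27 {P : Type} [Group P] (hP : Nat.card P = 27) (hn : ¬ ∀ x y : P, x * y = y * x) :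
    _root_.commutator P = center P ∧ Nat.card (center P) = 3 ∧ ∀ g : P, g ^ 3 ∈ center P := by
  have : Fact (Nat.Prime 3) := ⟨Nat.prime_three⟩
  have : Finite P := Nat.finite_of_card_ne_zero (by omega)
  have : Nontrivial P := Finite.one_lt_card_iff_nontrivial.1 (by omega)
  have h0 : IsPGroup 3 P := IsPGroup.of_card (n := 3) hP
  have h1 : ¬ IsCyclic (P ⧸ center P) := fun _ => hn ((QuotientGroup.mk' (center P)).isMulCommutative_of_isCyclic_of_ker_le_center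
    (QuotientGroup.ker_mk' _).le).is_comm.comm
  have h2 := (center P).card_mul_index
  have h3 : 1 < Nat.card (center P) := Finite.one_lt_card_iff_nontrivial.2 h0.center_nontrivial
  obtain ⟨k, hk, h4⟩ := (Nat.dvd_prime_pow Nat.prime_three).1 (show (center P).index ∣ 3 ^ 3 from
    (index_dvd_card _).trans hP.dvd)
  have h5 : (center P).index = 9 := by
    interval_cases k
    · exact absurd (isCyclic_of_card_dvd_prime (p := 3) (h4 ▸ one_dvd _ : (center P).index ∣ 3)) h1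
    · exact absurd (isCyclic_of_card_dvd_prime (p := 3) (h4 ▸ dvd_rfl : (center P).index ∣ 3)) h1
    · exact h4
    · rw [h4] at h2
      omega
  have h6 : Nat.card (center P) = 3 := by
    rw [h5] at h2
    omega
  have h7 : _root_.commutator P ≤ center P := Normal.quotient_commutative_iff_commutator_le.1
    (IsPGroup.isMulCommutative_of_card_eq_prime_sq (p := 3) h5)
  refine ⟨eq_of_le_of_card_ge h7 ?_, h6, fun g => ?_⟩
  · rcases (Nat.dvd_prime Nat.prime_three).1 (h6 ▸ card_dvd_of_le h7) with h | h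
    · refine absurd (fun x y => ?_) hn
      rw [← commutatorElement_eq_one_iff_mul_comm, ← mem_bot, ← card_eq_one.1 h]
      exact commutator_mem_commutator (mem_top x) (mem_top y)
    · omega
  · obtain ⟨j, hj, h8⟩ := (Nat.dvd_prime_pow Nat.prime_three).1 (show orderOf (g : P ⧸ center P) ∣ 3 ^ 2 from
      (_root_.orderOf_dvd_natCard _).trans h5.dvd)
    rw [← QuotientGroup.eq_one_iff, QuotientGroup.mk_pow, ← orderOf_dvd_iff_pow_eq_one, h8]
    interval_cases j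
    · exact one_dvd _
    · exact dvd_rfl
    · exact absurd (isCyclic_of_orderOf_eq_card _ (h8.trans h5.symm)) h1

variable {G : Type} [Group G]

theorem pow_lt {H : Subgroup G} {x : G} (h : x ∉ H) (h3 : x ^ 3 ∈ H) {k : ZMod 3} (hk : x ^ k.val ∈ H) : k = 0 := by
  have h1 := k.val_lt
  rw [← ZMod.val_eq_zero]
  generalize k.val = n at hk h1
  interval_cases n
  · rfl
  · exact absurd (pow_one x ▸ hk) h
  · exact absurd ((mul_mem_cancel_left hk).1 (pow_succ x 2 ▸ h3)) h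

variable [Finite G] {A P : Subgroup G}

omit [Finite G] in
theorem comm9 (hA : Nat.card A = 9) {x y : G} (hx : x ∈ A) (hy : y ∈ A) : x * y = y * x :=
  have : Fact (Nat.Prime 3) := ⟨Nat.prime_three⟩
  congrArg Subtype.val ((IsPGroup.isMulCommutative_of_card_eq_prime_sq (p := 3) hA).is_comm.comm (⟨x, hx⟩ : A) ⟨y, hy⟩)

/-- a subgroup of order `9` is maximal -/
theorem max9 (hP : Nat.card P = 27) (hA : Nat.card A = 9) {K : Subgroup G} (hAK : A ≤ K) (hKP : K ≤ P) : K = A ∨ K = P := by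
  obtain ⟨k, hk, h4⟩ := (Nat.dvd_prime_pow Nat.prime_three).1 (show Nat.card K ∣ 3 ^ 3 from
    (card_dvd_of_le hKP).trans hP.dvd)
  have h1 := card_le_of_le hAK
  interval_cases k
  · omega
  · omega
  · exact Or.inl (eq_of_le_of_card_ge hAK (by omega)).symm
  · exact Or.inr (eq_of_le_of_card_ge hKP (by omega))

theorem inf_cent (hP : Nat.card P = 27) (hA : Nat.card A = 9) (hAP : A ≤ P) {b : G} (hb : b ∈ P)
    (hn : b ∉ centralizer (A : Set G)) {x : G} (hx : x ∈ P) (h : x ∈ centralizer (A : Set G)) : x ∈ A := by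
  rcases max9 hP hA (le_inf hAP fun a ha => mem_centralizer_iff.2 fun c hc => comm9 hA hc ha) inf_le_left with e | e
  · exact e.le ⟨hx, h⟩
  · exact absurd (e.ge hb).2 hn

theorem comm_facts (hP : Nat.card P = 27) (hA : Nat.card A = 9) (hAP : A ≤ P) {b : G} (hb : b ∈ P)
    (hn : b ∉ centralizer (A : Set G)) : Nat.card (⁅P, P⁆ : Subgroup G) = 3 ∧ ⁅P, P⁆ ≤ A ∧
      (∀ z ∈ ⁅P, P⁆, ∀ y ∈ P, y * z = z * y) ∧ ∀ y ∈ P, y ^ 3 ∈ ⁅P, P⁆ := by
  obtain ⟨h1, h2, h3⟩ := es27 hP fun h => hn (mem_centralizer_iff.2 fun a ha =>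
    congrArg Subtype.val (h ⟨a, hAP ha⟩ ⟨b, hb⟩))
  have h4 : ∀ z : P, z ∈ center P ↔ (z : G) ∈ ⁅P, P⁆ := fun z => by
    rw [← h1, ← ab_eq_zero z.2, ab_of z.2, ofMul_eq_zero, ← MonoidHom.mem_ker, Abelianization.ker_of]
  have h5 : ∀ z ∈ ⁅P, P⁆, ∀ y ∈ P, y * z = z * y := fun z hz y hy =>
    congrArg Subtype.val (mem_center_iff.1 ((h4 ⟨z, comm_le P hz⟩).2 hz) ⟨y, hy⟩)
  refine ⟨?_, fun z hz => inf_cent hP hA hAP hb hn (comm_le P hz) (mem_centralizer_iff.2 fun a ha => h5 z hz a (hAP ha)),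
    h5, fun y hy => (h4 _).1 (h3 ⟨y, hy⟩)⟩
  rw [← h2, show center P = ⁅P, P⁆.subgroupOf P from Subgroup.ext h4]
  exact (Nat.card_congr (subgroupOfEquivOfLe (comm_le P)).toEquiv).symm

theorem exists_co (hP : Nat.card P = 27) (hA : Nat.card A = 9) (hAP : A ≤ P) {b : G} (hb : b ∈ P)
    (hn : b ∉ centralizer (A : Set G)) : ∃ a ∈ A, ∃ e : V ≃+ Ab P, e (1, 0) = ab P a ∧ e (0, 1) = ab P b ∧
      ∀ x ∈ A, ∃ y, ab P x = e (y, 0) := by
  obtain ⟨h1, h2, -, h4⟩ := comm_facts hP hA hAP hb hn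
  obtain ⟨a, ha, hna⟩ : ∃ a ∈ A, a ∉ ⁅P, P⁆ := by
    by_contra! h
    have := card_le_of_le (show A ≤ ⁅P, P⁆ from h)
    omega
  have hbA : b ∉ A := fun h => hn (mem_centralizer_iff.2 fun c hc => comm9 hA hc h)
  have h5 : ∀ y ∈ P, ∀ i j : ZMod 3, (i + j).val • ab P y = i.val • ab P y + j.val • ab P y := fun y hy i j => by
    rw [ZMod.val_add, ← nsmul_eq_mod_nsmul _ (by rw [← ab_pow hy, ab_eq_zero (pow_mem hy 3)]; exact h4 y hy), add_nsmul]
  let f : V →+ Ab P := AddMonoidHom.mk' (fun v => v.1.val • ab P a + v.2.val • ab P b) fun u v => by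
    rw [Prod.fst_add, Prod.snd_add, h5 a (hAP ha), h5 b hb, add_add_add_comm]
  have h6 : ∀ v : V, f v = ab P (a ^ v.1.val * b ^ v.2.val) := fun v => by
    rw [ab_mul (pow_mem (hAP ha) _) (pow_mem hb _), ab_pow (hAP ha), ab_pow hb]
    rfl
  have h7 : ∀ x ∈ A, ∀ v : V, f v = ab P x → v.2 = 0 := fun x hx v h => by
    have h8 := mul_mem (pow_mem (hAP ha) v.1.val) (pow_mem hb v.2.val)
    rw [h6, ← sub_eq_zero, sub_eq_neg_add, ← ab_inv (hAP hx), ← ab_mul (inv_mem (hAP hx)) h8,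
      ab_eq_zero (mul_mem (inv_mem (hAP hx)) h8)] at h
    exact pow_lt hbA (h2 (h4 b hb)) ((mul_mem_cancel_left (pow_mem ha _)).1 ((mul_mem_cancel_left (inv_mem hx)).1 (h2 h)))
  have h8 : Function.Injective f := (injective_iff_map_eq_zero f).2 fun v h => by
    have h9 := h7 1 (one_mem _) v (h.trans ab_one.symm)
    rw [h6, h9, ZMod.val_zero, pow_zero, mul_one, ab_eq_zero (pow_mem (hAP ha) _)] at h
    exact Prod.ext (pow_lt hna (h4 a (hAP ha)) h) h9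
  have h9 : Nat.card (Ab P) ≤ Nat.card V := by
    have h10 := (_root_.commutator P).card_mul_index
    rw [hP, ← Nat.card_congr (equivMapOfInjective _ P.subtype P.subtype_injective).toEquiv.symm, _root_.commutator_def,
      map_commutator, ← MonoidHom.range_eq_map, range_subtype, h1] at h10
    rw [Nat.card_prod, Nat.card_zmod]
    change (_root_.commutator P).index ≤ _
    rw [_root_.commutator_def]
    omega
  have : Finite (Ab P) := Finite.of_surjective _ (QuotientGroup.mk_surjective (s := _root_.commutator P))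
  refine ⟨a, ha, AddEquiv.ofBijective f (h8.bijective_of_nat_card_le h9), ?_, ?_, fun x hx => ?_⟩
  · exact (h6 _).trans (congrArg _ (by simp [ZMod.val_one]))
  · exact (h6 _).trans (congrArg _ (by simp [ZMod.val_one]))
  · obtain ⟨⟨y, j⟩, h⟩ := (h8.bijective_of_nat_card_le h9).2 (ab P x)
    obtain rfl : j = 0 := h7 x hx _ h
    exact ⟨y, h.symm⟩

omit [Finite G] in
theorem kerAb_mem {g y : G} (hg : g ∈ kerAb P) (hy : y ∈ P) : y⁻¹ * (g * y * g⁻¹) ∈ ⁅P, P⁆ := by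
  have h1 := (mem_normalizer_iff.1 hg.1 y).1 hy
  rw [← ab_eq_zero (mul_mem (inv_mem hy) h1), ab_mul (inv_mem hy) h1, hg.2 y hy, ab_inv hy, neg_add_cancel]

omit [Finite G] in
/-- an element which acts trivially on `P / P'` -/
theorem kerAb_cube (h3 : Nat.card (⁅P, P⁆ : Subgroup G) = 3) (hc : ∀ z ∈ ⁅P, P⁆, ∀ y ∈ P, y * z = z * y) {g y : G}
    (hg : g ∈ kerAb P) (hy : y ∈ P) : y * g ^ 3 = g ^ 3 * y := by
  have h1 : ∀ y ∈ P, ∃ z ∈ ⁅P, P⁆, g * y * g⁻¹ = y * z := fun y hy =>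
    ⟨_, kerAb_mem hg hy, (mul_inv_cancel_left _ _).symm⟩
  have h2 : ⁅P, P⁆ ≤ centralizer {g} := commutator_le.2 fun a ha c hc' => mem_centralizer_singleton_iff.2 (by
    obtain ⟨z, hz, e⟩ := h1 a ha
    obtain ⟨w, hw, e'⟩ := h1 c hc'
    have h4 : g * ⁅a, c⁆ * g⁻¹ = ⁅a * z, c * w⁆ := by rw [← e, ← e', conjugate_commutatorElement]
    have k1 : Commute (c * w) z := hc z hz _ (mul_mem hc' (comm_le P hw))
    have k2 : Commute a⁻¹ w := hc w hw _ (inv_mem ha)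
    rw [eq_comm, ← mul_inv_eq_iff_eq_mul, h4, commutatorElement_def, commutatorElement_def, mul_assoc a, ← k1.eq,
      mul_inv_rev, mul_inv_rev, ← mul_assoc, ← mul_assoc, ← mul_assoc, mul_inv_cancel_right, ← mul_assoc,
      mul_assoc _ w, ← k2.eq, ← mul_assoc, mul_inv_cancel_right])
  obtain ⟨z, hz, e⟩ := h1 y hy
  have h4 : z * g = g * z := mem_centralizer_singleton_iff.1 (h2 hz)
  have h5 : z ^ 3 = 1 := congrArg Subtype.val (h3 ▸ pow_card_eq_one' (x := (⟨z, hz⟩ : (⁅P, P⁆ : Subgroup G))))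
  have h6 : g * y = y * (z * g) := by rw [← mul_assoc, ← e, inv_mul_cancel_right]
  have h7 : ∀ k : ℕ, g ^ k * y = y * (z * g) ^ k := fun k => by
    induction k with
    | zero => simp
    | succ k ih => rw [pow_succ', mul_assoc, ih, ← mul_assoc, h6, pow_succ', mul_assoc]
  rw [h7, Commute.mul_pow h4, h5, one_mul]

theorem k0_nine {X U : Subgroup G} (hX : ∀ g h : G, g * h * g⁻¹ * h⁻¹ ∈ X) (Q : Sylow 3 G) (hP : Nat.card Q = 27)
    (hA : Nat.card A = 9) (hAP : A ≤ Q) (h1 : normalizer (A : Set G) ⊓ normalizer ((Q : Subgroup G) : Set G) ≤ U)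
    (h2 : U ≤ normalizer ((Q : Subgroup G) : Set G)) (hC : ∀ g ∈ X, g ∈ centralizer ((Q : Subgroup G) : Set G) → g ∈ A)
    {b s r : G} (hb : b ∈ (Q : Subgroup G)) (hn : b ∉ centralizer (A : Set G))
    (hs : s ∈ normalizer ((Q : Subgroup G) : Set G)) (sa : ∀ a ∈ A, s * a * s⁻¹ = a⁻¹)
    (sb : b⁻¹ * (s * b * s⁻¹) ∈ centralizer (A : Set G)) (hr : r ∈ normalizer ((Q : Subgroup G) : Set G))
    (ra : r ∈ normalizer (A : Set G)) (rb : r * b * r⁻¹ * b ∈ centralizer (A : Set G)) :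
    k0 3 U = 9 * (Q : Subgroup G).relIndex (kerAb Q) := by
  have : Fact (Nat.Prime 3) := ⟨Nat.prime_three⟩
  obtain ⟨k1, k2, k3, k4⟩ := comm_facts hP hA hAP hb hn
  have hsb := (mem_normalizer_iff.1 hs b).1 hb
  have hrb := (mem_normalizer_iff.1 hr b).1 hb
  have ha₁ := inf_cent hP hA hAP hb hn (mul_mem (inv_mem hb) hsb) sb
  have ha₃ := inf_cent hP hA hAP hb hn (mul_mem hrb hb) rb
  set a₁ := b⁻¹ * (s * b * s⁻¹) with e₁
  have hb' : b * a₁ ^ 2 ∈ (Q : Subgroup G) := mul_mem hb (hAP (pow_mem ha₁ 2))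
  obtain ⟨a, ha, e, ea, eb, he⟩ := exists_co hP hA hAP hb' fun h => hn ((mul_mem_cancel_right
    (mem_centralizer_iff.2 fun c hc => comm9 hA hc (pow_mem ha₁ 2))).1 h)
  have hK : kerAb Q ≤ U := fun g hg => h1 ⟨mem_normalizer_fintype fun x hx => by
    rw [← mul_inv_cancel_left x (g * x * g⁻¹)]
    exact mul_mem hx (k2 (kerAb_mem hg (hAP hx))), hg.1⟩
  have h3 : ∀ y ∈ (Q : Subgroup G), 3 • ab Q y = 0 := fun y hy => by
    rw [← ab_pow hy, ab_eq_zero (pow_mem hy 3)]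
    exact k4 y hy
  refine k0_eq hX Q.2 hK h2 (nd_of_dvd Q.not_dvd_index (relIndex_dvd_index_of_le ((le_kerAb _).trans hK)))
    (fun g hg h => ?_) e (hAP ha) hb' ea eb (h1 ⟨mem_normalizer_fintype fun x hx => sa x hx ▸ inv_mem hx, hs⟩)
    (h1 ⟨ra, hr⟩) ?_ ?_ (he _ ((mem_normalizer_iff.1 ra a).1 ha)) ?_
  · have h4 := hC _ (pow_mem hg 3) (mem_centralizer_iff.2 fun y hy => kerAb_cube k1 k3 h hy)
    have h5 : (g ^ 3) ^ 9 = 1 := congrArg Subtype.val (hA ▸ pow_card_eq_one' (x := (⟨_, h4⟩ : A)))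
    obtain ⟨k, -, h6⟩ := (Nat.dvd_prime_pow Nat.prime_three).1 (orderOf_dvd_of_pow_eq_one
      (show g ^ 3 ^ 3 = 1 by rwa [← pow_mul] at h5))
    exact (((IsPGroup.of_card ((Nat.card_zpowers g).trans h6)).inf_normalizer_sylow Q).le ⟨mem_zpowers g, h.1⟩).2
  · rw [sa a ha, ab_inv (hAP ha), ← ea, ← map_neg]
    rfl
  · have h4 : s * (b * a₁ ^ 2) * s⁻¹ = b * a₁ * (a₁ ^ 2)⁻¹ := by
      rw [← sa _ (pow_mem ha₁ 2), e₁]
      group
    have h5 := hAP ha₁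
    rw [eb, h4, ab_mul (mul_mem hb h5) (inv_mem (pow_mem h5 2)), ab_mul hb h5, ab_inv (pow_mem h5 2), ab_mul hb (pow_mem h5 2),
      ab_pow h5, add_assoc, add_right_inj, ← sub_eq_zero, ← neg_eq_zero, ← h3 _ h5]
    abel
  · have h4 := pow_mem ha₁ 2
    have h5 := (mem_normalizer_iff.1 ra _).1 h4
    obtain ⟨y₁, e1⟩ := he _ ha₃
    obtain ⟨y₂, e2⟩ := he _ h5
    obtain ⟨y₃, e3⟩ := he _ h4
    refine ⟨y₁ + y₂ + y₃, ?_⟩
    rw [ab_mul hb (hAP h4), e3] at eb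
    rw [ab_mul hrb hb] at e1
    rw [show r * (b * a₁ ^ 2) * r⁻¹ = r * b * r⁻¹ * (r * a₁ ^ 2 * r⁻¹) by group, ab_mul hrb (hAP h5), e2,
      eq_sub_of_add_eq e1, ← sub_eq_iff_eq_add.2 eb, ← map_sub, ← map_sub, ← map_add]
    exact congrArg e (Prod.ext (by simp only [_root_.Prod.mk_sub_mk, _root_.zero_sub, _root_.sub_zero, _root_.sub_neg_eq_add, _root_.Prod.mk_add_mk, _root_.add_zero]; ring) (by simp; rfl))

end Cfsg.Agent.MO.S3
end

-- part: MO/S3/Main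
section
/-!
# MO/S3: the exceptions for `p = 3` (helper77)

`G₂(q)` for `q ≡ 2, 4, 5, 7 mod 9` and `²F₄(Q)` for `Q ≡ 2, 5 mod 9`: the normaliser of a Sylow subgroup `Q` does not
normalise the `3`-part `A` of the torus.

* `Ex X A` : the hypotheses, in terms of the relative Weyl group `N_X(A) / C_X(A)`; `Ex.map`;
* `kk_exc` : every `U` with `N(A) ⊓ N(Q) ≤ U ≤ N(Q)` has the same count as `N(Q)`;
* `mck_exc`, `one_of_exc` : the versions of `mck_of_sub`, `one_of_sub`.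
-/

set_option autoImplicit false

namespace Cfsg.Agent.MO.S3

open Cfsg Subgroup Cfsg.Agent.MO.T Cfsg.Agent.MO.L
open Cfsg.Agent.MK (Fa)
open scoped Pointwise

variable {G : Type} [Group G]

/-- `A` has order `9`, and the relative Weyl group contains `-1` and a dihedral pair `u`, `r` -/
structure Ex (X A : Subgroup G) : Prop where
  le : A ≤ X
  card : Nat.card A = 9
  syl : ¬ 81 ∣ Nat.card X
  inv : ∃ s ∈ X, ∀ a ∈ A, s * a * s⁻¹ = a⁻¹
  ur : ∃ u ∈ X, ∃ r ∈ X, u ∈ normalizer (A : Set G) ∧ r ∈ normalizer (A : Set G) ∧ u ∉ centralizer (A : Set G) ∧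
    u ^ 3 ∈ centralizer (A : Set G) ∧ r * u * r⁻¹ * u ∈ centralizer (A : Set G) ∧
    ∀ c ∈ X, c ∈ centralizer (A : Set G) → ∀ t ∈ X, t ∈ centralizer (A : Set G) → u * c * t = t * (u * c) → t ∈ A

theorem Ex.map {H : Type} [Group H] [Finite H] {A : Subgroup H} (h : Ex ⊤ A) (e : H →* G) (he : Function.Injective e) :
    Ex e.range (A.map e) := by
  have h1 : ∀ x, e x ∈ centralizer (A.map e : Set G) ↔ x ∈ centralizer (A : Set H) := fun x => by
    simp only [mem_centralizer_iff, coe_map, Set.forall_mem_image, ← map_mul, he.eq_iff]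
  obtain ⟨s, -, hs⟩ := h.inv
  obtain ⟨u, -, r, -, h2, h3, h4, h5, h6, h7⟩ := h.ur
  refine ⟨map_le_range _ _, (card_map_of_injective he).trans h.card, ?_, ⟨e s, ⟨s, rfl⟩, ?_⟩, e u, ⟨u, rfl⟩, e r, ⟨r, rfl⟩,
    le_normalizer_map e (mem_map_of_mem e h2), le_normalizer_map e (mem_map_of_mem e h3), mt (h1 u).1 h4,
    map_pow e u 3 ▸ (h1 _).2 h5, ?_, ?_⟩
  · rw [MonoidHom.range_eq_map, card_map_of_injective he]
    exact h.syl
  · rintro _ ⟨a, ha, rfl⟩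
    rw [← map_inv, ← map_mul, ← map_mul, hs a ha, map_inv]
  · rw [← map_inv, ← map_mul, ← map_mul, ← map_mul, h1]
    exact h6
  · rintro _ ⟨c, rfl⟩ hc _ ⟨t, rfl⟩ ht h8
    rw [← map_mul, ← map_mul, ← map_mul, he.eq_iff] at h8
    exact mem_map_of_mem e (h7 c (mem_top c) ((h1 c).1 hc) t (mem_top t) ((h1 t).1 ht) h8)

theorem cent_conj {A : Subgroup G} {n c : G} (hn : n ∈ normalizer (A : Set G)) (hc : c ∈ centralizer (A : Set G)) :
    n * c * n⁻¹ ∈ centralizer (A : Set G) := mem_centralizer_iff.2 fun a ha => by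
  have h := mem_centralizer_iff.1 hc _ ((mem_normalizer_iff''.1 hn a).1 ha)
  calc a * (n * c * n⁻¹) = n * (n⁻¹ * a * n * c) * n⁻¹ := by group
    _ = n * c * n⁻¹ * a := by rw [h]; group

variable [Finite G] {X A Z : Subgroup G}

omit [Finite G] in
theorem sylow_le [X.Normal] (hi : ¬ 3 ∣ X.index) (Q : Sylow 3 G) : (Q : Subgroup G) ≤ X := fun g hg => by
  obtain ⟨k, hk⟩ := Q.2 ⟨g, hg⟩
  rw [← QuotientGroup.eq_one_iff, ← orderOf_eq_one_iff]
  refine Nat.eq_one_of_dvd_coprimes ((Nat.prime_three.coprime_iff_not_dvd.2 hi).pow_left k) (orderOf_dvd_of_pow_eq_one ?_)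
    (_root_.orderOf_dvd_natCard _)
  rw [← QuotientGroup.mk_pow, show g ^ 3 ^ k = 1 from congrArg Subtype.val hk, QuotientGroup.mk_one]

/-- the elements of the relative Weyl group, adapted to a Sylow subgroup -/
theorem Ex.adapt (h : Ex X A) (Q : Sylow 3 G) (hQX : (Q : Subgroup G) ≤ X) (hAQ : A ≤ Q) : Nat.card Q = 27 ∧
    (∀ g ∈ X, g ∈ centralizer ((Q : Subgroup G) : Set G) → g ∈ A) ∧
    ∃ b ∈ (Q : Subgroup G), b ∉ centralizer (A : Set G) ∧ ∃ s ∈ normalizer ((Q : Subgroup G) : Set G),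
      (∀ a ∈ A, s * a * s⁻¹ = a⁻¹) ∧ b⁻¹ * (s * b * s⁻¹) ∈ centralizer (A : Set G) ∧
      ∃ r ∈ normalizer ((Q : Subgroup G) : Set G), r ∈ normalizer (A : Set G) ∧
        r * b * r⁻¹ * b ∈ centralizer (A : Set G) := by
  have : Fact (Nat.Prime 3) := ⟨Nat.prime_three⟩
  obtain ⟨s, hsX, hs⟩ := h.inv
  obtain ⟨u, huX, r, hrX, hu, hr, h4, h5, h6, h7⟩ := h.ur
  have hA := h.card
  obtain ⟨k, hk⟩ := Q.2.exists_card_eq
  have h1 : Nat.card Q = 9 ∨ Nat.card Q = 27 := by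
    have h2 : k < 4 := by
      by_contra! h2
      exact h.syl (((pow_dvd_pow 3 h2).trans hk.symm.dvd).trans (card_dvd_of_le hQX))
    have h3 := card_le_of_le hAQ
    interval_cases k <;> omega
  have hQN : (Q : Subgroup G) ≤ normalizer (A : Set G) := by
    rcases h1 with h1 | h1
    · exact (eq_of_le_of_card_ge hAQ (by omega)).ge.trans le_normalizer
    · refine (normal_subgroupOf_iff_le_normalizer hAQ).1 (normal_of_index_eq_minFac_card ?_)
      have h2 := (A.subgroupOf Q).card_mul_index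
      rw [Nat.card_congr (subgroupOfEquivOfLe hAQ).toEquiv, hA, h1] at h2
      rw [h1, show Nat.minFac 27 = 3 by norm_num]
      omega
  let N := X ⊓ normalizer (A : Set G)
  let C := (centralizer (A : Set G)).subgroupOf N
  have : C.Normal := ⟨fun c hc n => cent_conj n.2.2 hc⟩
  let π := QuotientGroup.mk' C
  have hπ : ∀ x : N, π x = 1 ↔ (x : G) ∈ centralizer (A : Set G) := fun x => QuotientGroup.eq_one_iff x
  have sπ : Function.Surjective π := QuotientGroup.mk'_surjective C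
  let Q' := Q.subtype (N := N) (le_inf hQX hQN)
  have k1 : IsPGroup 3 (zpowers (π ⟨u, huX, hu⟩)) := by
    obtain ⟨j, -, hj⟩ := (Nat.dvd_prime_pow Nat.prime_three).1 (orderOf_dvd_of_pow_eq_one
      (show π ⟨u, huX, hu⟩ ^ 3 ^ 1 = 1 from (map_pow π _ _).symm.trans ((hπ _).2 h5)))
    exact IsPGroup.of_card ((Nat.card_zpowers _).trans hj)
  obtain ⟨S, hS⟩ := k1.exists_le_sylow
  obtain ⟨n, hn⟩ := MulAction.exists_smul_eq (N ⧸ C) S (Q'.mapSurjective sπ)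
  obtain ⟨n, rfl⟩ := sπ n
  obtain ⟨b, hb, e⟩ : π n * π ⟨u, huX, hu⟩ * (π n)⁻¹ ∈ (Q' : Subgroup N).map π := by
    rw [← Sylow.coe_mapSurjective sπ, ← hn, Sylow.coe_subgroup_smul]
    exact smul_mem_pointwise_smul _ (MulAut.conj (π n)) (S : Subgroup (N ⧸ C)) (hS (mem_zpowers _))
  have hbn : (b : G) ∉ centralizer (A : Set G) := fun h => h4 ((hπ ⟨u, huX, hu⟩).1 (by
    rw [(hπ b).2 h, eq_comm, mul_inv_eq_one, mul_eq_left] at e
    exact e))
  have hbA : (b : G) ∉ A := fun h => hbn (mem_centralizer_iff.2 fun c hc => comm9 hA hc h)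
  have hQ : Nat.card Q = 27 := h1.resolve_left fun h => hbA ((eq_of_le_of_card_ge hAQ (by omega)).ge hb)
  have k2 : (Q' : Subgroup N).map π = zpowers (π b) := by
    refine le_antisymm ?_ (zpowers_le.2 ⟨b, hb, rfl⟩)
    rintro _ ⟨x, hx, rfl⟩
    have h8 : A ⊔ zpowers (b : G) = Q := (max9 hQ hA le_sup_left (sup_le hAQ (zpowers_le.2 hb))).resolve_left
      fun h => hbA (h.le (mem_sup_right (mem_zpowers _)))
    have h9 : (Q : Subgroup G) ≤ ((zpowers (π b)).comap π).map N.subtype := h8.ge.trans (sup_le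
      (fun a ha => ⟨⟨a, h.le ha, le_normalizer ha⟩, show π _ ∈ zpowers (π b) by
        rw [(hπ ⟨a, h.le ha, le_normalizer ha⟩).2 (mem_centralizer_iff.2 fun c hc => comm9 hA hc ha)]
        exact one_mem _, rfl⟩)
      (zpowers_le.2 ⟨b, mem_zpowers (π b), rfl⟩))
    obtain ⟨y, hy, e'⟩ := h9 hx
    exact (Subtype.ext e' : y = x) ▸ hy
  have adj : ∀ g : N, π g * π b * (π g)⁻¹ ∈ zpowers (π b) →
      ∃ g' : N, (g' : G) ∈ normalizer ((Q : Subgroup G) : Set G) ∧ π g' = π g := fun g hg => by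
    obtain ⟨g', h8, h9⟩ : π g ∈ (normalizer ((Q' : Subgroup N) : Set N)).map π := by
      rw [map_normalizer π sπ Q', k2]
      refine mem_normalizer_fintype ?_
      rintro _ ⟨j, rfl⟩
      rw [← conj_zpow]
      exact zpow_mem hg j
    exact ⟨g', mem_normalizer_fintype fun y hy => (mem_normalizer_iff.1 h8 ⟨y, hQX hy, hQN hy⟩).1 hy, h9⟩
  have hsN : s ∈ N := ⟨hsX, mem_normalizer_fintype fun x hx => hs x hx ▸ inv_mem hx⟩
  have k3 : π ⟨s, hsN⟩ * π b * (π ⟨s, hsN⟩)⁻¹ = π b := by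
    rw [← mul_inv_eq_one, ← map_inv, ← map_inv, ← map_mul, ← map_mul, ← map_mul, hπ]
    refine mem_centralizer_iff.2 fun a ha => ?_
    have h8 := hs _ ((mem_normalizer_iff''.1 b.2.2 a).1 ha)
    have h9 := hs _ (inv_mem ha)
    rw [inv_inv] at h9
    change a * (s * b * s⁻¹ * (b : G)⁻¹) = s * b * s⁻¹ * (b : G)⁻¹ * a
    calc _ = s * a⁻¹ * s⁻¹ * (s * b * s⁻¹ * (b : G)⁻¹) := by rw [h9]
      _ = s * b * s⁻¹ * (s * ((b : G)⁻¹ * a * b) * s⁻¹)⁻¹ * (b : G)⁻¹ := by group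
      _ = _ := by rw [h8]; group
  have k4 : π (n * ⟨r, hrX, hr⟩ * n⁻¹) * π b * (π (n * ⟨r, hrX, hr⟩ * n⁻¹))⁻¹ = (π b)⁻¹ := by
    have h8 := (hπ (⟨r, hrX, hr⟩ * ⟨u, huX, hu⟩ * (⟨r, hrX, hr⟩ : N)⁻¹ * ⟨u, huX, hu⟩)).2 h6
    rw [map_mul, map_mul, map_mul, map_inv] at h8
    rw [e, map_mul, map_mul, map_inv, eq_inv_iff_mul_eq_one]
    calc _ = π n * (π ⟨r, hrX, hr⟩ * π ⟨u, huX, hu⟩ * (π ⟨r, hrX, hr⟩)⁻¹ * π ⟨u, huX, hu⟩) * (π n)⁻¹ := by group
      _ = 1 := by rw [h8, mul_one, mul_inv_cancel]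
  obtain ⟨s', hs1, hs2⟩ := adj ⟨s, hsN⟩ (k3.symm ▸ mem_zpowers _)
  obtain ⟨r', hr1, hr2⟩ := adj _ (k4.symm ▸ inv_mem (mem_zpowers _))
  refine ⟨hQ, fun g hg h8 => ?_, b, hb, hbn, s', hs1, fun a ha => ?_, (hπ (b⁻¹ * (s' * b * s'⁻¹))).1 ?_, r', hr1, r'.2.2,
    (hπ (r' * b * r'⁻¹ * b)).1 ?_⟩
  · have h9 : g ∈ centralizer (A : Set G) := centralizer_le hAQ h8
    have h10 := (hπ ((⟨u, huX, hu⟩ : N)⁻¹ * (n⁻¹ * b * n))).1 (by
      rw [map_mul, map_mul, map_mul, map_inv, map_inv, e]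
      group)
    have h11 := h7 _ ((⟨u, huX, hu⟩ : N)⁻¹ * (n⁻¹ * b * n)).2.1 h10 _ (mul_mem (mul_mem (inv_mem n.2.1) hg) n.2.1)
      (by simpa using cent_conj (inv_mem n.2.2) h9) (by
        have h12 := mem_centralizer_iff.1 h8 b hb
        change u * (u⁻¹ * ((n : G)⁻¹ * b * n)) * _ = _ * (u * (u⁻¹ * ((n : G)⁻¹ * b * n)))
        calc _ = (n : G)⁻¹ * (b * g) * n := by group
          _ = _ := by rw [h12]; group)
    exact (mem_normalizer_iff''.1 n.2.2 g).2 h11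
  · have h8 := mem_centralizer_iff.1 ((hπ ((⟨s, hsN⟩ : N)⁻¹ * s')).1 (by rw [map_mul, map_inv, hs2, inv_mul_cancel])) a ha
    change a * (s⁻¹ * s') = s⁻¹ * s' * a at h8
    calc _ = s * (s⁻¹ * s' * a) * (s' : G)⁻¹ := by group
      _ = _ := by rw [← h8, ← hs a ha]; group
  · rw [map_mul, map_mul, map_mul, map_inv, map_inv, hs2, k3, inv_mul_cancel]
  · rw [map_mul, map_mul, map_mul, map_inv, hr2, k4, inv_mul_cancel]

variable [X.Normal] (h : Ex X A) (hX : ∀ g h : G, g * h * g⁻¹ * h⁻¹ ∈ X) (hi : ¬ 3 ∣ X.index) (hZ : Z ≤ center G)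
  (hc : ¬ 3 ∣ Nat.card Z) (Q : Sylow 3 G) (hAQ : A ≤ Q)

include h hX hi hZ hc hAQ

/-- **the local comparison** -/
theorem kk_exc {U : Subgroup G} (h1 : normalizer (A : Set G) ⊓ normalizer ((Q : Subgroup G) : Set G) ≤ U)
    (h2 : U ≤ normalizer ((Q : Subgroup G) : Set G)) (l : G → ℂ) :
    kk 3 U Z l = kk 3 (normalizer ((Q : Subgroup G) : Set G)) Z l := by
  obtain ⟨k1, k2, b, hb, hn, s, hs, sa, sb, r, hr, ra, rb⟩ := h.adapt Q (sylow_le hi Q) hAQ
  refine kk_eq_of_k0 hX hZ (fun z hz hx => ?_) ((le_inf (hZ.trans (center_le_normalizer _))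
    (hZ.trans (center_le_normalizer _))).trans h1) (hZ.trans (center_le_normalizer _)) ?_ l
  · have h3 := k2 z hx (center_le_centralizer _ (hZ hz))
    rw [← orderOf_eq_one_iff]
    exact Nat.eq_one_of_dvd_coprimes ((Nat.prime_three.coprime_iff_not_dvd.2 hc).pow_left 2)
      ((Subgroup.orderOf_dvd_natCard A h3).trans h.card.dvd) (Subgroup.orderOf_dvd_natCard Z hz)
  · rw [k0_nine hX Q k1 h.card hAQ h1 h2 k2 hb hn hs sa sb hr ra rb,
      k0_nine hX Q k1 h.card hAQ inf_le_right le_rfl k2 hb hn hs sa sb hr ra rb]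

theorem mck_exc (ih : IH 3 Z.index) {M : Subgroup G} (hM : M ≠ ⊤)
    (hN : normalizer (A : Set G) ⊓ normalizer ((Q : Subgroup G) : Set G) ≤ M) {l : G → ℂ}
    (e : kk 3 ⊤ Z l = kk 3 M Z l) (P : Sylow 3 G) : kk 3 ⊤ Z l = kk 3 (normalizer ((P : Subgroup G) : Set G)) Z l := by
  have : Fact (Nat.Prime 3) := ⟨Nat.prime_three⟩
  obtain ⟨k1, -⟩ := h.adapt Q (sylow_le hi Q) hAQ
  have h1 : (Q : Subgroup G) ≤ M := (le_inf ((normal_subgroupOf_iff_le_normalizer hAQ).1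
    (normal_of_index_eq_minFac_card (by
      have h2 := (A.subgroupOf Q).card_mul_index
      rw [Nat.card_congr (subgroupOfEquivOfLe hAQ).toEquiv, h.card, k1] at h2
      rw [k1, show Nat.minFac 27 = 3 by norm_num]
      omega))) le_normalizer).trans hN
  have h2 : Z ≤ M := (le_inf (hZ.trans (center_le_normalizer _)) (hZ.trans (center_le_normalizer _))).trans hN
  rw [e, MO.H.ih_sub ih hZ (MK.H.relIndex_lt h2 hM) h1 Q.2 (nd_of_dvd Q.not_dvd_index (relIndex_dvd_index_of_le h1)),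
    kk_exc h hX hi hZ hc Q hAQ (le_inf inf_le_right hN) inf_le_left]
  exact MO.H.kk_sylow hZ l Q P

omit h hX hi hZ hc hAQ in
/-- **the row**: `Γ / Inn Y` is cyclic of order prime to `3` -/
theorem one_of_exc {Y : Type} [Group Y] [Finite Y] {Γ : Subgroup (MulAut Y)} (s : Sit 3 Y Γ) {B : Subgroup Y} (h : Ex ⊤ B)
    (hΓ : ∃ γ ∈ Γ, (∀ α ∈ Γ, ∃ (y : Y) (k : ℤ), α = MulAut.conj y * γ ^ k) ∧
      ∃ (m : ℕ) (y : Y), ¬ 3 ∣ m ∧ γ ^ m = MulAut.conj y)
    (hM : ∀ (G : Type) [Group G] [Finite G] (Z : Subgroup G) (c : Cf 3 Γ G Z) (l : G → ℂ), Fa Z l →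
      ∃ (Q : Sylow 3 G) (M : Subgroup G), B.map c.e ≤ Q ∧ M ≠ ⊤ ∧
        normalizer (B.map c.e : Set G) ⊓ normalizer ((Q : Subgroup G) : Set G) ≤ M ∧ kk 3 ⊤ Z l = kk 3 M Z l) :
    One 3 Y Γ := fun G _ _ Z c l hl P => by
  have : Fact (Nat.Prime 3) := ⟨Nat.prime_three⟩
  obtain ⟨Q, M, h1, h2, h3, h4⟩ := hM G Z c l hl
  obtain ⟨γ, hγ, h5, m, y, hm, h6⟩ := hΓ
  obtain ⟨g, rfl⟩ := c.onto hγ
  have hn : c.e.range.Normal := ⟨by
    rintro _ ⟨x, rfl⟩ g
    exact ⟨_, (c.ha g x).symm⟩⟩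
  let π := QuotientGroup.mk' c.e.range
  have k1 : ∀ x : G, ∃ z ∈ Z, ∃ k : ℤ, π x = π z * π g ^ k := fun x => by
    obtain ⟨y, k, e⟩ := h5 _ (c.mem x)
    refine ⟨x * (c.e y * g ^ k)⁻¹, c.mem_Z.2 (by rw [map_mul, map_inv, map_mul, map_zpow, c.a_e, e, mul_inv_cancel]), k, ?_⟩
    rw [map_mul, map_inv, map_mul, map_zpow, show π (c.e y) = 1 from (QuotientGroup.eq_one_iff _).2 ⟨y, rfl⟩, one_mul,
      inv_mul_cancel_right]
  have k2 : ∀ z ∈ Z, ∀ x : G, Commute (π x) (π z) := fun z hz x =>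
    (map_mul π x z).symm.trans ((congrArg π (mem_center_iff.1 (c.cen hz) x)).trans (map_mul π z x))
  have k3 : ∀ x x' : G, Commute (π x) (π x') := fun x x' => by
    obtain ⟨z, hz, k, e⟩ := k1 x'
    rw [e]
    refine (k2 z hz x).mul_right ?_
    obtain ⟨z', hz', k', e'⟩ := k1 x
    rw [e']
    exact ((k2 z' hz' g).symm.zpow_right k).mul_left ((Commute.refl _).zpow_zpow k' k)
  refine mck_exc (h.map c.e c.inj) (fun a b => (QuotientGroup.eq_one_iff _).1 ?_) (fun e => ?_) c.cen c.cop Q h1 (c.ih s)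
    h2 h3 h4 P
  · change π _ = 1
    rw [map_mul, map_mul, map_mul, map_inv, map_inv, (k3 a b).eq]
    group
  · obtain ⟨w, hw⟩ := exists_prime_orderOf_dvd_card' (G := G ⧸ c.e.range) 3 e
    obtain ⟨x, rfl⟩ := QuotientGroup.mk'_surjective _ w
    obtain ⟨z, hz, k, e'⟩ := k1 x
    obtain ⟨z', hz', e''⟩ : ∃ z' ∈ Z, π g ^ m = π z' :=
      ⟨g ^ m * (c.e y)⁻¹, c.mem_Z.2 (by rw [map_mul, map_inv, map_pow, c.a_e, h6, mul_inv_cancel]), by
        rw [map_mul, map_inv, map_pow, show π (c.e y) = 1 from (QuotientGroup.eq_one_iff _).2 ⟨y, rfl⟩, inv_one, mul_one]⟩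
    have k4 : ∀ z ∈ Z, π z ^ Nat.card Z = 1 := fun z hz => by
      rw [← map_pow, show z ^ Nat.card Z = 1 from congrArg Subtype.val (pow_card_eq_one' (x := (⟨z, hz⟩ : Z))), map_one]
    refine nd_mul' hm c.cop (hw ▸ orderOf_dvd_of_pow_eq_one ?_)
    change π x ^ _ = 1
    rw [e', ((k2 z hz g).symm.zpow_right k).mul_pow, mul_comm m, pow_mul, k4 z hz, one_pow, one_mul, mul_comm,
      ← zpow_natCast, ← zpow_mul, mul_comm, zpow_mul, zpow_natCast, pow_mul, e'', k4 z' hz', one_zpow]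

end Cfsg.Agent.MO.S3
end

private theorem dce_3d983efc32e5 : _root_.True := by
  try have : _root_.True := by simp only [_root_.Cfsg.Agent.H577.GLB.Std.LabZ.mk.congr_simp]
  try have : _root_.True := by simp only [_root_.Cfsg.Agent.MO.TA.tot.eq_1]
  try have : _root_.True := by simp only [_root_.Cfsg.Agent.MO.S3.un.eq_1]
  try have : _root_.True := by simp only [_root_.Cfsg.Agent.MO.S3.tri.eq_1]
  try have : _root_.True := by simp only [_root_.Cfsg.Agent.MO.S3.mat.eq_1]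
  try have : _root_.True := by simp only [_root_.Cfsg.Agent.MO.TA.mulL.eq_1]
  try have : _root_.True := by simp only [_root_.Cfsg.Agent.MO.TA.XG.oo.eq_1]
  try have : _root_.True := by simp only [_root_.Cfsg.Agent.MO.S3.wd.eq_1]
  try have : _root_.True := by simp only [_root_.Cfsg.Agent.MO.TA.dfG.eq_1]
  try have : _root_.True := by simp only [_root_.Cfsg.Agent.MO.S3.sx.eq_1]
  try have : _root_.True := by simp only [_root_.Cfsg.Agent.H112.GLB.shiftL.eq_1]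
  try have : _root_.True := by simp only [_root_.Cfsg.Agent.MO.S3.ap.eq_1]
  try have : _root_.True := by simp only [_root_.Cfsg.Agent.MO.TA.XG.T.eq_1]
  try have : _root_.True := by simp only [_root_.Cfsg.Agent.MO.TA.D0.lin.eq_1]
  try have : _root_.True := by simp only [_root_.Cfsg.Agent.MO.TA.XG.T.congr_simp]
  try have : _root_.True := by simp only [_root_.Cfsg.Agent.MO.S3.mu.eq_1]
  try have : _root_.True := by simp only [_root_.Cfsg.Agent.MO.S3.d4.eq_1]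
  try have : _root_.True := by simp only [_root_.Cfsg.Agent.MO.TA.hk.eq_1]
  try have : _root_.True := by simp only [_root_.Cfsg.Agent.H615.GU.expoZ.eq_1]
  exact _root_.True.intro
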